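import Cfsg.Agent.Chev.ReeF4Mult.Series

/-!
In a central extension of `²F₄(q)` the lifts of long root elements centralize the lifts of `U`.
-/

set_option autoImplicit false
set_option maxRecDepth 100000
set_option maxHeartbeats 2000000

namespace Cfsg.Agent.Chev

open Cfsg.Lie
open scoped MatrixGroups

universe u v

namespace ReeF4Mult

open ReeF4 ReeF4Invol

section Br

variable {M : Type v} [Group M]

/-- The commutator. -/
def br (a b : M) : M := a * b * a⁻¹ * b⁻¹

theorem br_mul_left {a a' b : M} (h : br a' b ∈ Subgroup.center M) :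
    br (a * a') b = br a b * br a' b := by
  have hz := Subgroup.mem_center_iff.1 h
  calc br (a * a') b = a * br a' b * (b * a⁻¹ * b⁻¹) := by simp [br, mul_assoc]
    _ = br a' b * br a b := by rw [hz a]; simp [br, mul_assoc]
    _ = br a b * br a' b := (hz _).symm

theorem br_mul_right {a b b' : M} (h : br a b' ∈ Subgroup.center M) :
    br a (b * b') = br a b * br a b' := by
  have hz := Subgroup.mem_center_iff.1 h
  calc br a (b * b') = a * b * a⁻¹ * (br a b' * b⁻¹) := by simp [br, mul_assoc]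
    _ = a * b * a⁻¹ * (b⁻¹ * br a b') := by rw [hz b⁻¹]
    _ = _ := by simp [br, mul_assoc]

theorem br_conj (k a b : M) : k * br a b * k⁻¹ = br (k * a * k⁻¹) (k * b * k⁻¹) := by
  simp [br, mul_assoc]

theorem br_eq_one {a b : M} : br a b = 1 ↔ a * b = b * a := by
  rw [br, mul_inv_eq_one, mul_inv_eq_iff_eq_mul]

theorem map_br {N : Type*} [Group N] (f : M →* N) (a b : M) : f (br a b) = br (f a) (f b) := by
  simp [br]

theorem br_central {a z : M} (h : z ∈ Subgroup.center M) : br a z = 1 ∧ br z a = 1 :=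
  ⟨br_eq_one.2 (Subgroup.mem_center_iff.1 h a), br_eq_one.2 (Subgroup.mem_center_iff.1 h a).symm⟩

theorem br_congr_center {a b z w : M} (hz : z ∈ Subgroup.center M) (hw : w ∈ Subgroup.center M) :
    br (a * z) (b * w) = br a b := by
  rw [br_mul_left (by rw [(br_central hz).2]; exact one_mem _), (br_central hz).2, mul_one,
    br_mul_right (by rw [(br_central hw).1]; exact one_mem _), (br_central hw).1, mul_one]

end Br

variable {K : Type u} [Field K] [CharP K 2] {m : ℕ}
  {Γ : Type v} [Group Γ] (σ : Γ →* ↥(twistedF4 K (2 ^ m)))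

/-- The map into the matrices. -/
def im : Γ →* GL chevF4.Idx K := (twistedF4 K (2 ^ m)).subtype.comp σ

open Classical in
/-- A chosen preimage. -/
noncomputable def sec (g : GL chevF4.Idx K) : Γ :=
  if h : ∃ a, im σ a = g then h.choose else 1

variable {σ}

section Ext

variable (hσ : Function.Surjective σ) (hc : σ.ker ≤ Subgroup.center Γ)

include hc in
theorem im_one {a : Γ} (h : im σ a = 1) : a ∈ Subgroup.center Γ :=
  hc (MonoidHom.mem_ker.2 (Subtype.ext h))

include hc in
theorem br_congr {a a' b b' : Γ} (ha : im σ a = im σ a') (hb : im σ b = im σ b') :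
    br a b = br a' b' := by
  have h1 : a'⁻¹ * a ∈ Subgroup.center Γ :=
    im_one hc (by rw [map_mul, map_inv, ha, inv_mul_cancel])
  have h2 : b'⁻¹ * b ∈ Subgroup.center Γ :=
    im_one hc (by rw [map_mul, map_inv, hb, inv_mul_cancel])
  rw [← br_congr_center (a := a') (b := b') h1 h2, mul_inv_cancel_left, mul_inv_cancel_left]

theorem im_br (a b : Γ) :
    im σ (br a b) = im σ a * im σ b * (im σ a)⁻¹ * (im σ b)⁻¹ := by
  simp [br]

include hσ in
theorem exists_pre {g : GL chevF4.Idx K} (hg : g ∈ twistedF4 K (2 ^ m)) : ∃ a, im σ a = g := by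
  obtain ⟨a, ha⟩ := hσ ⟨g, hg⟩
  exact ⟨a, congrArg Subtype.val ha⟩

include hσ in
theorem im_sec {g : GL chevF4.Idx K} (hg : g ∈ twistedF4 K (2 ^ m)) : im σ (sec σ g) = g := by
  rw [sec, dif_pos (exists_pre hσ hg)]
  exact (exists_pre hσ hg).choose_spec

variable [Fintype K] (hK : Fintype.card K = 2 ^ (2 * m + 1))

include hσ hK in
theorem im_X (k : ℕ) (s : K) : im σ (sec σ (P m (sgl k s))) = P m (sgl k s) :=
  im_sec hσ (U1_le_G1 (P_mem (isTheta hK) _))

include hσ hK in
theorem im_κ (p : Kˣ × Kˣ) : im σ (sec σ (tor m p)) = tor m p :=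
  im_sec hσ (T1_le_G1 hK ⟨p, rfl⟩)

include hσ hc hK

/-- A lift of a long root element commutes with all lifts from the unipotent subgroup. -/
theorem E_comm (hm1 : 1 ≤ m) {x : Γ} (hx : im σ x ∈ U1 K m) (u : K) :
    br x (sec σ (P m (sgl 8 u))) = 1 := by
  have hm := isTheta hK
  set e : K → Γ := fun u => sec σ (P m (sgl 8 u)) with he
  have ime : ∀ u, im σ (e u) = P m (sgl 8 u) := im_X hσ hK 8
  have hcomm : ∀ k < 12, ∀ s u : K,
      P m (sgl k s) * P m (sgl 8 u) * (P m (sgl k s))⁻¹ * (P m (sgl 8 u))⁻¹ = 1 := by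
    intro k hk s u
    have h : _ ∈ N (K := K) m (11 + 1) := comm_mem_N hK (j := 11) hk (by omega) s u
    have hbot : N (K := K) m (11 + 1) = ⊥ := by
      rw [N, eq_bot_iff, Subgroup.closure_le]
      rintro y ⟨k, hk', -⟩
      simp [suf, ordS] at hk'
    rwa [hbot, Subgroup.mem_bot] at h
  have hcen : ∀ u, ∀ y : Γ, im σ y ∈ U1 K m → br y (e u) ∈ Subgroup.center Γ := by
    intro u y hy
    refine im_one hc ?_
    rw [im_br, ime]
    obtain ⟨v, hv⟩ := exists_P hK hy
    rw [hv]
    have hS : ∀ k < 12, P m (sgl k (v k)) ∈ Subgroup.centralizer ({P m (sgl 8 u)} : Set _) :=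
      fun k hk => Subgroup.mem_centralizer_singleton_iff.2 (by
        have := hcomm k hk (v k) u
        rwa [mul_inv_eq_one, mul_inv_eq_iff_eq_mul] at this)
    have hP : P m v ∈ Subgroup.centralizer ({P m (sgl 8 u)} : Set _) := by
      rw [P_prod v]
      exact mul_mem (mul_mem (mul_mem (mul_mem (mul_mem (mul_mem (mul_mem (mul_mem (mul_mem (mul_mem
        (mul_mem (hS 0 (by omega)) (hS 1 (by omega))) (hS 2 (by omega))) (hS 3 (by omega)))
        (hS 4 (by omega))) (hS 5 (by omega))) (hS 6 (by omega))) (hS 7 (by omega)))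
        (hS 8 (by omega))) (hS 9 (by omega))) (hS 10 (by omega))) (hS 11 (by omega))
    rw [Subgroup.mem_centralizer_singleton_iff.1 hP]
    group
  have hX : ∀ k (s : K), im σ (sec σ (P m (sgl k s))) ∈ U1 K m := fun k s => by
    rw [im_X hσ hK]; exact P_mem hm _
  set B : ℕ → K → K → Γ := fun k s u => br (sec σ (P m (sgl k s))) (e u) with hB
  have hright : ∀ k, ∀ s u u' : K, B k s (u + u') = B k s u * B k s u' := by
    intro k s u u'
    show br _ _ = br _ _ * br _ _
    rw [← br_mul_right (hcen u' _ (hX k s))]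
    refine br_congr hc rfl ?_
    rw [map_mul, ime, ime, ime, sgl_add hm (by omega)]
    simp [isOdd4, P_sgl_zero]
  have key : ∀ k < 12, (isOdd4 k = true → ∀ s u, B (k + 1) s u = 1) →
      (∀ s s' u : K, B k (s + s') u = B k s u * B k s' u) := by
    intro k hk hpart s s' u
    show br _ _ = br _ _ * br _ _
    rw [← br_mul_left (hcen u _ (hX k s'))]
    have e1 : br (sec σ (P m (sgl (k + 1) (bif isOdd4 k then th K m s * s' else 0)))) (e u) = 1 := by
      cases h : isOdd4 k
      · rw [cond_false, br_congr hc (b' := e u) (show im σ _ = im σ (1 : Γ) by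
          rw [im_X hσ hK, P_sgl_zero, map_one]) rfl]
        simp [br]
      · exact hpart h _ u
    rw [← mul_one (br (sec σ (P m (sgl k (s + s')))) (e u)), ← e1, ← br_mul_left (hcen u _ (hX _ _))]
    refine br_congr hc ?_ rfl
    rw [map_mul, map_mul, im_X hσ hK, im_X hσ hK, im_X hσ hK, im_X hσ hK, sgl_add hm hk]
  have hinv : ∀ k, ∀ p : Kˣ × Kˣ, ∀ s u : K,
      B k ((chi m k p : K) * s) ((chi m 8 p : K) * u) = B k s u := by
    intro k p s u
    show br _ _ = br _ _
    have hz := Subgroup.mem_center_iff.1 (hcen u _ (hX k s)) (sec σ (tor m p))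
    conv_rhs => rw [← mul_inv_cancel_right (br _ (e u)) (sec σ (tor m p)), ← hz, br_conj]
    refine br_congr hc ?_ ?_
    · rw [map_mul, map_mul, map_inv, im_X hσ hK, im_X hσ hK, im_κ hσ hK, tor_conj_sgl hK]
    · rw [map_mul, map_mul, map_inv, ime, ime, im_κ hσ hK, tor_conj_sgl hK]
  have hzero : ∀ k < 12, k ≠ 7 → (isOdd4 k = true → ∀ s u, B (k + 1) s u = 1) →
      ∀ s u, B k s u = 1 := fun k hk h7 hpart =>
    pairing_zero hK hm1 hk (by omega) (by
      interval_cases k <;> first | exact Or.inl (by decide) | exact Or.inr rfl | exact absurd rfl h7)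
      (B k) (key k hk hpart) (hright k) (hinv k)
  have h2 := hzero 2 (by omega) (by omega) (by simp [isOdd4])
  have h4 := hzero 4 (by omega) (by omega) (by simp [isOdd4])
  have h6 := hzero 6 (by omega) (by omega) (by simp [isOdd4])
  have h8 := hzero 8 (by omega) (by omega) (by simp [isOdd4])
  have hall : ∀ k < 12, k ≠ 7 → ∀ s u, B k s u = 1 := fun k hk h7 =>
    hzero k hk h7 (fun h => by
      interval_cases k <;> (try exact absurd h (by decide)) <;> (try exact absurd rfl h7)
      exacts [h2, h4, h6])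
  -- the elements killed by the pairing
  let S : Subgroup Γ :=
    { carrier := {y | im σ y ∈ U1 K m ∧ ∀ u, br y (e u) = 1}
      one_mem' := ⟨by rw [map_one]; exact one_mem _, fun u => by simp [br]⟩
      mul_mem' := fun {a b} ha hb => ⟨by rw [map_mul]; exact mul_mem ha.1 hb.1, fun u => by
        rw [br_mul_left (hcen u _ hb.1), ha.2, hb.2, mul_one]⟩
      inv_mem' := fun {a} ha => ⟨by rw [map_inv]; exact inv_mem ha.1, fun u => by
        have := ha.2 u
        rw [br_eq_one] at this ⊢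
        exact (Commute.inv_left this).eq⟩ }
  have hS : ∀ k < 12, k ≠ 7 → ∀ s, sec σ (P m (sgl k s)) ∈ S := fun k hk h7 s =>
    ⟨hX k s, hall k hk h7 s⟩
  have hSc : ∀ {a b : Γ}, im σ a = im σ b → b ∈ S → a ∈ S := fun {a b} e1 hb =>
    ⟨e1 ▸ hb.1, fun u => (br_congr hc e1 rfl).trans (hb.2 u)⟩
  have h7 : ∀ s, sec σ (P m (sgl 7 s)) ∈ S := by
    intro s
    obtain ⟨v, hv, ev⟩ := bc_value hK s
    have hcS : br (sec σ (P m (sgl 1 s))) (sec σ (P m (sgl 3 (1 : K)))) ∈ S :=
      mul_mem (mul_mem (mul_mem (hS 1 (by omega) (by omega) _) (hS 3 (by omega) (by omega) _))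
        (inv_mem (hS 1 (by omega) (by omega) _))) (inv_mem (hS 3 (by omega) (by omega) _))
    have h := fun k hk h7 => hS k hk h7 (v k)
    set A := sec σ (P m (sgl 0 (v 0))) * sec σ (P m (sgl 1 (v 1))) * sec σ (P m (sgl 2 (v 2))) *
      sec σ (P m (sgl 3 (v 3))) * sec σ (P m (sgl 4 (v 4))) * sec σ (P m (sgl 5 (v 5))) *
      sec σ (P m (sgl 6 (v 6))) with hA
    set C := sec σ (P m (sgl 8 (v 8))) * sec σ (P m (sgl 9 (v 9))) *
      sec σ (P m (sgl 10 (v 10))) * sec σ (P m (sgl 11 (v 11))) with hC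
    have hAm : A ∈ S := mul_mem (mul_mem (mul_mem (mul_mem (mul_mem (mul_mem (h 0 (by omega) (by omega))
      (h 1 (by omega) (by omega))) (h 2 (by omega) (by omega))) (h 3 (by omega) (by omega)))
      (h 4 (by omega) (by omega))) (h 5 (by omega) (by omega))) (h 6 (by omega) (by omega))
    have hCm : C ∈ S := mul_mem (mul_mem (mul_mem (h 8 (by omega) (by omega))
      (h 9 (by omega) (by omega))) (h 10 (by omega) (by omega))) (h 11 (by omega) (by omega))
    refine hSc (b := A⁻¹ * br (sec σ (P m (sgl 1 s))) (sec σ (P m (sgl 3 (1 : K)))) * C⁻¹) ?_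
      (mul_mem (mul_mem (inv_mem hAm) hcS) (inv_mem hCm))
    rw [map_mul, map_mul, map_inv, map_inv, im_br, im_X hσ hK, im_X hσ hK, im_X hσ hK, ev, P_prod v,
      hA, hC, hv]
    simp only [map_mul, im_X hσ hK]
    group
  have hall' : ∀ k < 12, ∀ s, sec σ (P m (sgl k s)) ∈ S := fun k hk s => by
    by_cases h : k = 7
    · exact h ▸ h7 s
    · exact hS k hk h s
  obtain ⟨v, hv⟩ := exists_P hK hx
  have h := fun k hk => hall' k hk (v k)
  refine (hSc ?_ (mul_mem (mul_mem (mul_mem (mul_mem (mul_mem (mul_mem (mul_mem (mul_mem (mul_mem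
    (mul_mem (mul_mem (h 0 (by omega)) (h 1 (by omega))) (h 2 (by omega))) (h 3 (by omega)))
    (h 4 (by omega))) (h 5 (by omega))) (h 6 (by omega))) (h 7 (by omega))) (h 8 (by omega)))
    (h 9 (by omega))) (h 10 (by omega))) (h 11 (by omega)))).2 u
  simp only [map_mul, im_X hσ hK]
  rw [hv, ← P_prod]

/-- Lifts of the two coordinates of a compound root commute. -/
theorem pair_comm (hm1 : 1 ≤ m) {k : ℕ} (hk : k ∈ [1, 3, 5, 7]) (s u : K) :
    br (sec σ (P m (sgl k s))) (sec σ (P m (sgl (k + 1) u))) = 1 := by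
  have hm := isTheta hK
  obtain ⟨ws, e1, e2⟩ : ∃ ws : List (Fin 2),
      P m (sgl k s) = nW ws * yB m s 0 * (nW ws : GL chevF4.Idx K)⁻¹ ∧
      P m (sgl (k + 1) u) = nW ws * yB m 0 u * (nW ws : GL chevF4.Idx K)⁻¹ := by
    obtain ⟨-, a1, -, a3, -, a5, -, a7, -, -, -, -⟩ := P_sgl (m := m) s
    obtain ⟨-, -, a2, -, a4, -, a6, -, a8, -, -, -⟩ := P_sgl (m := m) u
    simp only [List.mem_cons, List.not_mem_nil, or_false] at hk
    rcases hk with rfl | rfl | rfl | rfl
    · exact ⟨[], by rw [a1, nW_nil]; simp, by rw [a2, nW_nil]; simp⟩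
    · exact ⟨_, a3, a4⟩
    · exact ⟨_, a5, a6⟩
    · exact ⟨_, a7, a8⟩
  set g : GL chevF4.Idx K := nW [0, 1, 0] * (nW ws : GL chevF4.Idx K)⁻¹ with hg'
  have hg : g ∈ twistedF4 K (2 ^ m) := mul_mem (nW_mem_G1 _) (inv_mem (nW_mem_G1 _))
  have f1 : g * P m (sgl k s) * g⁻¹ = P m (sgl 7 s) := by
    rw [e1, (P_sgl (m := m) s).2.2.2.2.2.2.2.1, hg']; group
  have f2 : g * P m (sgl (k + 1) u) * g⁻¹ = P m (sgl 8 u) := by
    rw [e2, (P_sgl (m := m) u).2.2.2.2.2.2.2.2.1, hg']; group
  have h := E_comm hσ hc hK hm1 (x := sec σ (P m (sgl 7 s))) (by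
    rw [im_X hσ hK]; exact P_mem hm _) u
  rw [br_congr hc (a' := sec σ g * sec σ (P m (sgl k s)) * (sec σ g)⁻¹)
    (b' := sec σ g * sec σ (P m (sgl (k + 1) u)) * (sec σ g)⁻¹)
    (by rw [map_mul, map_mul, map_inv, im_sec hσ hg, im_X hσ hK, im_X hσ hK, f1])
    (by rw [map_mul, map_mul, map_inv, im_sec hσ hg, im_X hσ hK, im_X hσ hK, f2]),
    ← br_conj, conj_eq_one_iff] at h
  exact h

end Ext

end ReeF4Mult

end Cfsg.Agent.Chev
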