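import Cfsg.Agent.Chev.ReeF4Mult.Section
import Cfsg.Agent.ChevAut.ReeF4Out.Norm
import Cfsg.Agent.ProjExt.Stem

/-!
The Schur multiplier of `²F₄(q)` is trivial for `q > 2`.
-/

set_option autoImplicit false
set_option maxRecDepth 100000
set_option maxHeartbeats 1000000

namespace Cfsg.Agent.Chev

open Cfsg.Lie
open scoped MatrixGroups

universe u v

namespace ReeF4Mult

open ReeF4 ReeF4Invol

variable {K : Type u} [Field K] [CharP K 2] {m : ℕ} [Fintype K]
  (hK : Fintype.card K = 2 ^ (2 * m + 1))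
include hK

theorem ker_eq_bot (hm1 : 1 ≤ m) {Γ : Type v} [Group Γ] [Finite Γ]
    {σ : Γ →* ↥(twistedF4 K (2 ^ m))} (hσ : Cfsg.IsStemExtension σ) : σ.ker = ⊥ := by
  haveI := Fact.mk Nat.prime_two
  obtain ⟨hs, hc, hd⟩ := hσ
  obtain ⟨P, hP⟩ := exists_sylow (m := m) hK
  have hodd : Odd (Nat.card σ.ker) := by
    rw [← Nat.not_even_iff_odd, even_iff_two_dvd]
    intro h2
    obtain ⟨⟨z, hz⟩, ho⟩ := exists_prime_orderOf_dvd_card' 2 h2
    rw [Subgroup.orderOf_mk] at ho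
    refine P.not_dvd_index ?_
    have h := orderOf_dvd_of_pow_eq_one (two_part hK hs hc hm1 hz (hd hz))
    rw [ho] at h
    rwa [hP]
  exact (Subgroup.eq_bot_iff_forall _).2 fun z hz =>
    OExt.trivial_of_commutator hK ⟨hs, hc, hodd⟩ hm1 hz (hd hz)

theorem multiplier (hm1 : 1 ≤ m) :
    Cfsg.HasCyclicSchurMultiplier ↥(twistedF4 K (2 ^ m)) 1 :=
  ProjExt.Stem.hasCyclicSchurMultiplier_one fun _ _ _ _ hσ => ker_eq_bot hK hm1 hσ

end ReeF4Mult

end Cfsg.Agent.Chev
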