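import Cfsg.Agent.Chev.ReeF4Mult.TwoPart
import Cfsg.Agent.Chev.ReeF4.Main

/-!
Central extensions of `²F₄(q)` with kernel of odd order: canonical lifts of two-elements, of the
torus and of the Weyl group.
-/

set_option autoImplicit false
set_option maxRecDepth 100000
set_option maxHeartbeats 1000000

namespace Cfsg.Agent.Chev

open Cfsg.Lie
open scoped MatrixGroups

universe u v

namespace ReeF4Mult

open ReeF4 ReeF4Invol

/-- The action of the first fundamental element on the rows of the Cartan matrix. -/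
theorem cartan_w0' : ∀ r : Fin chevF4.nroots,
    chevF4.cartan 0 (wA 0 r : ℕ) = -chevF4.cartan 0 (r : ℕ) ∧
    chevF4.cartan 1 (wA 0 r : ℕ) = chevF4.cartan 0 (r : ℕ) + chevF4.cartan 1 (r : ℕ) ∧
    chevF4.cartan 2 (wA 0 r : ℕ) = chevF4.cartan 2 (r : ℕ) + chevF4.cartan 3 (r : ℕ) ∧
    chevF4.cartan 3 (wA 0 r : ℕ) = -chevF4.cartan 3 (r : ℕ) := by decide +kernel

/-- The action of the second fundamental element on the rows of the Cartan matrix. -/
theorem cartan_w1 : ∀ r : Fin chevF4.nroots,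
    chevF4.cartan 0 (wA 1 r : ℕ) =
      chevF4.cartan 0 (r : ℕ) + 2 * chevF4.cartan 1 (r : ℕ) + 2 * chevF4.cartan 2 (r : ℕ) ∧
    chevF4.cartan 1 (wA 1 r : ℕ) = -chevF4.cartan 1 (r : ℕ) ∧
    chevF4.cartan 2 (wA 1 r : ℕ) = -chevF4.cartan 2 (r : ℕ) ∧
    chevF4.cartan 3 (wA 1 r : ℕ) =
      chevF4.cartan 1 (r : ℕ) + 2 * chevF4.cartan 2 (r : ℕ) + chevF4.cartan 3 (r : ℕ) := by
  decide +kernel

theorem braid_pt : ∀ r, pW [0, 1, 0, 1, 0, 1, 0, 1, 0, 1, 0, 1, 0, 1, 0, 1] r = r := by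
  decide +kernel

variable {K : Type u} [Field K] [CharP K 2] {m : ℕ}

/-- The action of a fundamental element on the torus. -/
noncomputable def sAct (m : ℕ) (a : Fin 2) (p : Kˣ × Kˣ) : Kˣ × Kˣ :=
  if a = 0 then (p.2 * p.1⁻¹, p.2) else (p.1, p.1 ^ 2 * uT m p.1 ^ 2 * p.2⁻¹)

theorem sO_tor (hm : IsTheta K m) (a : Fin 2) (p : Kˣ × Kˣ) :
    sO a * tor m p * sO a = (tor m (sAct m a p) : GL chevF4.Idx K) := by
  suffices h : sO a * tor m p = (tor m (sAct m a p) : GL chevF4.Idx K) * sO a by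
    rw [h, mul_assoc, sO_sq, mul_one]
  refine torus_conj (orb a) rfl fun r => ?_
  show ∏ j : Fin 4, _ = ∏ j : Fin 4, _
  rw [Fin.prod_univ_four, Fin.prod_univ_four]
  obtain rfl | rfl : a = 0 ∨ a = 1 := by omega
  · obtain ⟨e0, e1, e2, e3⟩ := cartan_w0' r
    rw [show (pWord facts_chevF4.{u} (orb 0) r : ℕ) = (wA 0 r : ℕ) from rfl]
    erw [e0, e1, e2, e3]
    show uT m (p.2 * p.1⁻¹) ^ _ * uT m p.2 ^ _ * p.2 ^ _ * (p.2 * p.1⁻¹) ^ _ =
      uT m p.1 ^ _ * uT m p.2 ^ _ * p.2 ^ _ * p.1 ^ _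
    simp only [map_mul, map_inv, mul_zpow, inv_zpow', zpow_add, zpow_neg, inv_inv]
    simp [mul_comm, mul_left_comm, mul_assoc]
  · obtain ⟨e0, e1, e2, e3⟩ := cartan_w1 r
    rw [show (pWord facts_chevF4.{u} (orb 1) r : ℕ) = (wA 1 r : ℕ) from rfl]
    erw [e0, e1, e2, e3]
    show uT m p.1 ^ _ * uT m (p.1 ^ 2 * uT m p.1 ^ 2 * p.2⁻¹) ^ _ *
      (p.1 ^ 2 * uT m p.1 ^ 2 * p.2⁻¹) ^ _ * p.1 ^ _ =
      uT m p.1 ^ _ * uT m p.2 ^ _ * p.2 ^ _ * p.1 ^ _
    have h2 : ∀ (x : Kˣ) (n : ℤ), x ^ (2 * n) = (x ^ 2) ^ n := fun x n => by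
      rw [zpow_mul, zpow_ofNat]
    simp only [map_mul, map_inv, map_pow]
    rw [uT_uT hm]
    simp only [mul_zpow, inv_zpow', zpow_add, zpow_neg, inv_inv, h2]
    simp [mul_comm, mul_left_comm, mul_assoc]

theorem sqrt_unit [Fintype K] (hK : Fintype.card K = 2 ^ (2 * m + 1)) (a : Kˣ) :
    (a ^ 2 ^ (2 * m)) ^ 2 = a :=
  Units.ext (by rw [← pow_mul, ← pow_succ, ← hK, Units.val_pow_eq_pow_val, FiniteField.pow_card])

/-- The order of a Sylow two-subgroup. -/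
def E2 (m : ℕ) : ℕ := 2 ^ ((2 * m + 1) * 12)

theorem two_dvd_E2 : 2 ∣ E2 m := dvd_pow_self 2 (by omega)

variable [Fintype K] (hK : Fintype.card K = 2 ^ (2 * m + 1))
  {Γ : Type v} [Group Γ] {σ : Γ →* ↥(twistedF4 K (2 ^ m))}

include hK in
theorem U1_pow {g : GL chevF4.Idx K} (hg : g ∈ U1 K m) : g ^ E2 m = 1 := by
  have h := congrArg Subtype.val (pow_card_eq_one' (x := (⟨g, hg⟩ : ↥(U1 K m))))
  rw [card_U1 hK, hK, ← pow_mul] at h
  exact h

/-- A central extension with kernel of odd order. -/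
structure OExt (σ : Γ →* ↥(twistedF4 K (2 ^ m))) : Prop where
  surj : Function.Surjective σ
  cen : σ.ker ≤ Subgroup.center Γ
  odd : Odd (Nat.card σ.ker)

/-- An exponent which is one on two-elements and kills the kernel. -/
noncomputable def eN (σ : Γ →* ↥(twistedF4 K (2 ^ m))) : ℕ :=
  if h : (E2 m).Coprime (Nat.card σ.ker) then (Nat.chineseRemainder h 1 0).1 else 0

/-- The lift of a two-element. -/
noncomputable def lft (σ : Γ →* ↥(twistedF4 K (2 ^ m))) (g : GL chevF4.Idx K) : Γ :=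
  sec σ g ^ eN σ

variable (O : OExt σ)
include O

omit [Fintype K] in
theorem OExt.eN_spec :
    eN σ % E2 m = 1 % E2 m ∧ Nat.card σ.ker ∣ eN σ := by
  have h : (E2 m).Coprime (Nat.card σ.ker) := Nat.Coprime.pow_left _ O.odd.coprime_two_left
  rw [eN, dif_pos h]
  exact ⟨(Nat.chineseRemainder h 1 0).2.1, Nat.modEq_zero_iff_dvd.1 (Nat.chineseRemainder h 1 0).2.2⟩

omit [Fintype K] in
theorem OExt.pow_fix {M : Type*} [Monoid M] {b : M} (hb : b ^ E2 m = 1) : b ^ eN σ = b := by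
  conv_rhs => rw [← pow_one b]
  rw [← Nat.mod_add_div (eN σ) (E2 m), O.eN_spec.1, pow_add, pow_mul, hb, one_pow, mul_one]
  conv_rhs => rw [← Nat.mod_add_div 1 (E2 m), pow_add, pow_mul, hb, one_pow, mul_one]

omit [Fintype K] in
theorem OExt.ker_pow {z : Γ} (hz : im σ z = 1) : z ^ eN σ = 1 := by
  have hz' : z ∈ σ.ker := MonoidHom.mem_ker.2 (Subtype.ext hz)
  obtain ⟨k, hk⟩ := O.eN_spec.2
  rw [hk, pow_mul, show z ^ Nat.card σ.ker = 1 from congrArg Subtype.val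
    (pow_card_eq_one' (x := (⟨z, hz'⟩ : ↥σ.ker))), one_pow]

omit [Fintype K] in
theorem OExt.pow_congr {a b : Γ} (h : im σ a = im σ b) : a ^ eN σ = b ^ eN σ := by
  have hz : im σ (b⁻¹ * a) = 1 := by rw [map_mul, map_inv, h, inv_mul_cancel]
  have hcm : Commute b (b⁻¹ * a) := Subgroup.mem_center_iff.1 (im_one O.cen hz) b
  calc a ^ eN σ = (b * (b⁻¹ * a)) ^ eN σ := by rw [mul_inv_cancel_left]
    _ = _ := by rw [hcm.mul_pow, O.ker_pow hz, mul_one]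

omit [Fintype K] in
theorem OExt.im_lft {g : GL chevF4.Idx K} (hg : g ∈ twistedF4 K (2 ^ m)) (h2 : g ^ E2 m = 1) :
    im σ (lft σ g) = g := by
  rw [lft, map_pow, im_sec O.surj hg, O.pow_fix h2]

omit [Fintype K] in
theorem OExt.lft_eq {g : GL chevF4.Idx K} {b : Γ} (hb : im σ b = g) (h2 : b ^ E2 m = 1) :
    lft σ g = b := by
  rw [lft, O.pow_congr (b := b) (by rw [im_sec O.surj (hb ▸ (σ b).2), hb]), O.pow_fix h2]

omit [Fintype K] in
theorem OExt.lft_pow {g : GL chevF4.Idx K} (hg : g ∈ twistedF4 K (2 ^ m)) (h2 : g ^ E2 m = 1) :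
    lft σ g ^ E2 m = 1 := by
  rw [lft, ← pow_mul, mul_comm, pow_mul]
  exact O.ker_pow (by rw [map_pow, im_sec O.surj hg, h2])

omit [Fintype K] in
theorem OExt.lft_conj (x : Γ) {g : GL chevF4.Idx K} (hg : g ∈ twistedF4 K (2 ^ m))
    (h2 : g ^ E2 m = 1) : x * lft σ g * x⁻¹ = lft σ (im σ x * g * (im σ x)⁻¹) := by
  symm
  refine O.lft_eq (by rw [map_mul, map_mul, map_inv, O.im_lft hg h2]) ?_
  rw [conj_pow, O.lft_pow hg h2, mul_one, mul_inv_cancel]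

include hK in
theorem OExt.lft_mul [Finite Γ] (hm1 : 1 ≤ m) {a b : GL chevF4.Idx K} (ha : a ∈ U1 K m)
    (hb : b ∈ U1 K m) : lft σ (a * b) = lft σ a * lft σ b := by
  obtain ⟨V, hV⟩ := exists_lifted hK O.surj O.cen hm1
  have hv : ∀ g ∈ U1 K m, ∃ v ∈ V, im σ v = g ∧ lft σ g = v := fun g hg => by
    obtain ⟨v, hv, e⟩ := hV.surj g ((N_zero hK).symm ▸ hg)
    refine ⟨v, hv, e, O.lft_eq e (hV.triv _ (pow_mem hv _) ?_)⟩
    rw [map_pow, e, U1_pow hK hg]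
  obtain ⟨v, hv1, ev, el⟩ := hv a ha
  obtain ⟨w, hw1, ew, el'⟩ := hv b hb
  obtain ⟨x, hx1, ex, el''⟩ := hv _ (mul_mem ha hb)
  rw [el, el', el'']
  refine inv_mul_eq_one.1 (hV.triv _ (mul_mem (inv_mem hx1) (mul_mem hv1 hw1)) ?_)
  rw [map_mul, map_inv, map_mul, ex, ev, ew, inv_mul_cancel]

omit [Fintype K] in
theorem OExt.lft_one : lft σ (1 : GL chevF4.Idx K) = 1 :=
  O.lft_eq (map_one _) (one_pow _)

/-! ### The fundamental elements -/

omit [Fintype K] in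
theorem sO_pow (a : Fin 2) : (sO a : GL chevF4.Idx K) ^ E2 m = 1 := by
  obtain ⟨k, hk⟩ := two_dvd_E2 (m := m)
  rw [hk, pow_mul, pow_two, sO_sq, one_pow]

/-- The lift of a fundamental element. -/
noncomputable def sL (σ : Γ →* ↥(twistedF4 K (2 ^ m))) (a : Fin 2) : Γ := lft σ (sO a)

omit [Fintype K] in
theorem OExt.im_sL (a : Fin 2) : im σ (sL σ a) = sO a := O.im_lft (sO_mem_G1 a) (sO_pow O a)

omit [Fintype K] in
theorem OExt.sL_sq (a : Fin 2) : sL σ a * sL σ a = 1 := by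
  rw [← pow_two]
  have h : im σ (sL σ a ^ 2) = 1 := by rw [map_pow, pow_two, O.im_sL, sO_sq]
  have h2 := O.ker_pow h
  rwa [O.pow_fix] at h2
  rw [← pow_mul, mul_comm, pow_mul, show sL σ a ^ E2 m = 1 from O.lft_pow (sO_mem_G1 a) (sO_pow O a),
    one_pow]

omit [Fintype K] in
theorem OExt.sL_inv (a : Fin 2) : (sL σ a)⁻¹ = sL σ a :=
  inv_eq_of_mul_eq_one_right (O.sL_sq a)

omit [Fintype K] in
theorem OExt.eq_one_of_sq {z : Γ} (hz : im σ z = 1) (h2 : z * z = 1) : z = 1 := by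
  have h := O.ker_pow hz
  rwa [O.pow_fix] at h
  obtain ⟨k, hk⟩ := two_dvd_E2 (m := m)
  rw [hk, pow_mul, pow_two, h2, one_pow]

/-- The lift of a word in the fundamental elements. -/
noncomputable def nL (σ : Γ →* ↥(twistedF4 K (2 ^ m))) (ws : List (Fin 2)) : Γ :=
  (ws.map (sL σ)).prod

omit [Fintype K] in
theorem OExt.im_nL (ws : List (Fin 2)) : im σ (nL σ ws) = nW ws := by
  induction ws with
  | nil => simp [nL, nW_nil]
  | cons a ws ih => rw [nW_cons, nL, List.map_cons, List.prod_cons, map_mul, O.im_sL, ← ih, nL]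

omit [Fintype K] in
theorem OExt.nL_congr {us vs : List (Fin 2)} (h : pW us = pW vs) : nL σ us = nL σ vs := by
  set r := sL σ 0 * sL σ 1 with hr
  set s := sL σ 0 with hs
  have hs2 : s * s = 1 := O.sL_sq 0
  have hr1 : s * r * s = r⁻¹ := by
    rw [hr, mul_inv_rev, O.sL_inv, hs, O.sL_inv, ← mul_assoc, ← hs, hs2, one_mul]
  have him : im σ (r ^ 8) = 1 := by
    have e := nW_congr (K := K) (us := [0, 1, 0, 1, 0, 1, 0, 1, 0, 1, 0, 1, 0, 1, 0, 1]) (vs := [])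
      (Equiv.ext fun x => by rw [braid_pt, pW_nil]; rfl)
    rw [nW_nil] at e
    rw [map_pow, map_mul, O.im_sL, O.im_sL, ← e]
    simp [nW_cons, nW_nil, pow_succ, mul_assoc]
  have hr8 : r ^ 8 = 1 := by
    refine O.eq_one_of_sq him ?_
    have h1 : s * r ^ 8 * s⁻¹ = (r ^ 8)⁻¹ := by
      rw [← conj_pow, O.sL_inv, hr1, inv_pow]
    rw [Subgroup.mem_center_iff.1 (im_one O.cen him) s, mul_inv_cancel_right] at h1
    exact eq_inv_iff_mul_eq_one.1 h1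
  have hsr : ∀ i : ℕ, s * r ^ i = r⁻¹ ^ i * s := fun i => by
    rw [← hr1, show s * r * s = s * r * s⁻¹ by rw [O.sL_inv], conj_pow, O.sL_inv, mul_assoc, hs2,
      mul_one]
  have hr7 : r⁻¹ = r ^ 7 := inv_eq_of_mul_eq_one_right (by rw [← pow_succ', hr8])
  have key : ∀ ws : List (Fin 2), ∃ i : ℕ, nL σ ws = r ^ i ∨ nL σ ws = r ^ i * s := by
    intro ws
    induction ws with
    | nil => exact ⟨0, Or.inl (by simp [nL])⟩
    | cons a ws ih =>
      have e : nL σ (a :: ws) = sL σ a * nL σ ws := rfl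
      obtain rfl | rfl : a = 0 ∨ a = 1 := by omega
      · obtain ⟨i, h | h⟩ := ih
        · exact ⟨7 * i, Or.inr (by rw [e, h, ← hs, hsr, hr7, pow_mul])⟩
        · exact ⟨7 * i, Or.inl (by
            rw [e, h, ← hs, ← mul_assoc, hsr, mul_assoc, hs2, mul_one, hr7, pow_mul])⟩
      · have e1 : sL σ 1 = s * r := by rw [hr, ← mul_assoc, hs2, one_mul]
        obtain ⟨i, h | h⟩ := ih
        · exact ⟨7 * (i + 1), Or.inr (by rw [e, h, e1, mul_assoc, ← pow_succ', hsr, hr7, pow_mul])⟩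
        · exact ⟨7 * (i + 1), Or.inl (by
            rw [e, h, e1, mul_assoc, ← mul_assoc r, ← pow_succ', ← mul_assoc, hsr, mul_assoc, hs2,
              mul_one, hr7, pow_mul])⟩
  have h16 : ∀ ws, nL σ ws ^ 16 = 1 := fun ws => by
    obtain ⟨i, h | h⟩ := key ws
    · rw [h, ← pow_mul, show i * 16 = 8 * (2 * i) by ring, pow_mul, hr8, one_pow]
    · rw [h, show (16 : ℕ) = 2 * 8 from rfl, pow_mul, pow_two, mul_assoc, ← mul_assoc s, hsr,
        mul_assoc _ s, hs2, mul_one, inv_pow, mul_inv_cancel, one_pow]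
  have hinv : ∀ ws, (nL σ ws)⁻¹ = nL σ ws.reverse := fun ws => by
    simp [nL, List.prod_inv_reverse, List.map_reverse, O.sL_inv, Function.comp_def]
  refine inv_mul_eq_one.1 ?_
  have e : (nL σ us)⁻¹ * nL σ vs = nL σ (us.reverse ++ vs) := by
    rw [hinv, nL, nL, nL, List.map_append, List.prod_append]
  have hz : im σ ((nL σ us)⁻¹ * nL σ vs) = 1 := by
    rw [map_mul, map_inv, O.im_nL, O.im_nL, nW_congr h, inv_mul_cancel]
  rw [e] at hz ⊢
  have h' := O.ker_pow hz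
  rwa [O.pow_fix] at h'
  obtain ⟨k, hk⟩ : 16 ∣ E2 m := by
    rw [E2, show (16 : ℕ) = 2 ^ 4 from rfl]; exact Nat.pow_dvd_pow 2 (by omega)
  rw [hk, pow_mul, h16, one_pow]

/-! ### The torus -/

/-- The commutator of a torus element with a fundamental element. -/
noncomputable def phi (σ : Γ →* ↥(twistedF4 K (2 ^ m))) (a : Fin 2) (p : Kˣ × Kˣ) : Γ :=
  sec σ (tor m p) * sL σ a * (sec σ (tor m p))⁻¹ * sL σ a

include hK in
theorem OExt.phi_eq (a : Fin 2) {p : Kˣ × Kˣ} {x : Γ} (hx : im σ x = tor m p) :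
    phi σ a p = x * sL σ a * x⁻¹ * sL σ a := by
  have h : sec σ (tor m p) * sL σ a * (sec σ (tor m p))⁻¹ = x * sL σ a * x⁻¹ := by
    rw [sL, O.lft_conj _ (sO_mem_G1 a) (sO_pow O a), O.lft_conj _ (sO_mem_G1 a) (sO_pow O a), hx,
      im_sec O.surj (T1_le_G1 hK ⟨p, rfl⟩)]
  rw [phi, h]

include hK in
theorem OExt.im_phi (a : Fin 2) (p : Kˣ × Kˣ) :
    im σ (phi σ a p) = tor m (p * (sAct m a p)⁻¹) := by
  rw [phi, map_mul, map_mul, map_mul, map_inv, im_sec O.surj (T1_le_G1 hK ⟨p, rfl⟩), O.im_sL,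
    map_mul, map_inv, ← sO_tor (isTheta hK) a p, mul_inv_rev, mul_inv_rev, sO_inv]
  group

include hK in
theorem OExt.torus_comm {x y : Γ} (hx : im σ x ∈ T1 K m) (hy : im σ y ∈ T1 K m) :
    x * y = y * x := by
  have hm := isTheta hK
  let κ : Kˣ × Kˣ → Γ := fun p => sec σ (tor m p)
  have imκ : ∀ p, im σ (κ p) = tor m p := fun p => im_sec O.surj (T1_le_G1 hK ⟨p, rfl⟩)
  have hcen : ∀ p q, br (κ p) (κ q) ∈ Subgroup.center Γ := fun p q => im_one O.cen (by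
    rw [map_br, imκ, imκ, br_eq_one, ← map_mul, mul_comm, map_mul])
  have hl : ∀ p p' q, br (κ (p * p')) (κ q) = br (κ p) (κ q) * br (κ p') (κ q) := fun p p' q => by
    rw [← br_mul_left (hcen p' q)]
    exact br_congr O.cen (by rw [map_mul, imκ, imκ, imκ, map_mul]) rfl
  have hr : ∀ p q q', br (κ p) (κ (q * q')) = br (κ p) (κ q) * br (κ p) (κ q') := fun p q q' => by
    rw [← br_mul_right (hcen p q')]
    exact br_congr O.cen rfl (by rw [map_mul, imκ, imκ, imκ, map_mul])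
  have h1 : ∀ q, br (κ 1) (κ q) = 1 := fun q => by
    have := hl 1 1 q
    rw [one_mul] at this
    exact left_eq_mul.mp this
  have hcyc : ∀ (i : Kˣ →* Kˣ × Kˣ) (a b : Kˣ), br (κ (i a)) (κ (i b)) = 1 := by
    intro i a b
    obtain ⟨g, hg⟩ := IsCyclic.exists_generator (α := Kˣ)
    obtain ⟨k, hk⟩ := hg a
    obtain ⟨l, hl'⟩ := hg b
    rw [br_congr O.cen (a' := κ (i g) ^ k) (b' := κ (i g) ^ l) (by
      rw [imκ, map_zpow, imκ, ← map_zpow, ← map_zpow]; exact congrArg _ (congrArg _ hk.symm)) (by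
      rw [imκ, map_zpow, imκ, ← map_zpow, ← map_zpow]; exact congrArg _ (congrArg _ hl'.symm)),
      br_eq_one]
    exact Commute.zpow_zpow_self _ _ _
  have hA : ∀ a b : Kˣ, br (κ (a, 1)) (κ (b, 1)) = 1 := hcyc (MonoidHom.inl Kˣ Kˣ)
  have hB : ∀ a b : Kˣ, br (κ (1, a)) (κ (1, b)) = 1 := hcyc (MonoidHom.inr Kˣ Kˣ)
  have hAB : ∀ a b : Kˣ, br (κ (a, 1)) (κ (1, b)) = 1 := by
    intro a b
    refine O.eq_one_of_sq ?_ ?_
    · rw [map_br, imκ, imκ, br_eq_one, ← map_mul, mul_comm, map_mul]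
    have hconj : br (κ (a, 1)) (κ (1, b)) = br (κ (a⁻¹, 1)) (κ (b, b)) := by
      have hz := Subgroup.mem_center_iff.1 (hcen (a, 1) (1, b)) (sL σ 0)
      conv_lhs => rw [← mul_inv_cancel_right (br (κ (a, 1)) (κ (1, b))) (sL σ 0), ← hz, br_conj]
      refine br_congr O.cen ?_ ?_ <;>
        rw [map_mul, map_mul, map_inv, O.im_sL, imκ, imκ, sO_inv, sO_tor hm] <;>
        simp [sAct]
    have e2 : br (κ (a⁻¹, 1)) (κ (b, b)) = br (κ (a⁻¹, 1)) (κ (1, b)) := by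
      rw [show ((b, b) : Kˣ × Kˣ) = (b, 1) * (1, b) by simp, hr, hA, one_mul]
    rw [e2] at hconj
    have e3 := hl (a, 1) (a⁻¹, 1) (1, b)
    rw [← hconj, show ((a, 1) : Kˣ × Kˣ) * (a⁻¹, 1) = 1 by simp, h1] at e3
    exact e3.symm
  obtain ⟨p, hp⟩ := hx
  obtain ⟨q, hq⟩ := hy
  have h : ∀ p q : Kˣ × Kˣ, br (κ p) (κ q) = 1 := by
    rintro ⟨a, b⟩ ⟨c, d⟩
    rw [show ((a, b) : Kˣ × Kˣ) = (a, 1) * (1, b) by simp, hl,
      show ((c, d) : Kˣ × Kˣ) = (c, 1) * (1, d) by simp, hr, hr, hA, hAB, hB,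
      show br (κ (1, b)) (κ (c, 1)) = 1 from br_eq_one.2 (br_eq_one.1 (hAB c b)).symm]
    simp
  exact br_eq_one.1 ((br_congr O.cen ((imκ p).trans hp).symm ((imκ q).trans hq).symm).trans (h p q))

include hK in
theorem OExt.phi_mul (a : Fin 2) (p q : Kˣ × Kˣ) : phi σ a (p * q) = phi σ a p * phi σ a q := by
  have hp := im_sec O.surj (T1_le_G1 hK (⟨p, rfl⟩ : tor m p ∈ T1 K m))
  have hq := im_sec O.surj (T1_le_G1 hK (⟨q, rfl⟩ : tor m q ∈ T1 K m))
  have h := O.torus_comm hK (x := phi σ a q) (y := sec σ (tor m p))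
    (by rw [O.im_phi hK]; exact ⟨_, rfl⟩) (by rw [hp]; exact ⟨_, rfl⟩)
  have h' := O.torus_comm hK (x := phi σ a q) (y := phi σ a p)
    (by rw [O.im_phi hK]; exact ⟨_, rfl⟩) (by rw [O.im_phi hK]; exact ⟨_, rfl⟩)
  rw [O.phi_eq hK a (x := sec σ (tor m p) * sec σ (tor m q)) (by rw [map_mul, hp, hq, map_mul])]
  calc sec σ (tor m p) * sec σ (tor m q) * sL σ a * (sec σ (tor m p) * sec σ (tor m q))⁻¹ * sL σ a
      = sec σ (tor m p) * (sec σ (tor m q) * sL σ a * (sec σ (tor m q))⁻¹ * sL σ a) *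
          (sL σ a)⁻¹ * (sec σ (tor m p))⁻¹ * sL σ a := by group
    _ = sec σ (tor m p) * phi σ a q * sL σ a * (sec σ (tor m p))⁻¹ * sL σ a := by
        rw [O.sL_inv]; rfl
    _ = phi σ a q * phi σ a p := by rw [← h]; simp [phi, mul_assoc]
    _ = _ := h'

include hK in
theorem OExt.phi_eq_one (a : Fin 2) {p : Kˣ × Kˣ} (h : p = sAct m a p) : phi σ a p = 1 := by
  have e : sec σ (tor m p) * sL σ a * (sec σ (tor m p))⁻¹ = sL σ a := by
    rw [sL, O.lft_conj _ (sO_mem_G1 a) (sO_pow O a), im_sec O.surj (T1_le_G1 hK ⟨p, rfl⟩)]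
    congr 1
    rw [mul_inv_eq_iff_eq_mul]
    calc tor m p * sO a = sO a * (sO a * tor m p * sO a) := by
          rw [← mul_assoc, ← mul_assoc, sO_sq, one_mul]
      _ = _ := by rw [sO_tor (isTheta hK), ← h]
  rw [phi, e, O.sL_sq]

/-- The lift of the torus. -/
noncomputable def tau (σ : Γ →* ↥(twistedF4 K (2 ^ m))) (p : Kˣ × Kˣ) : Γ :=
  phi σ 0 (p.1 ^ 2 ^ (2 * m), 1) * phi σ 1 (1, p.2 ^ 2 ^ (2 * m))

include hK in
theorem OExt.im_tau (p : Kˣ × Kˣ) : im σ (tau σ p) = tor m p := by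
  rw [tau, map_mul, O.im_phi hK, O.im_phi hK, ← map_mul]
  refine congrArg _ (Prod.ext ?_ ?_) <;>
    simp [sAct, ← pow_two, sqrt_unit hK]

include hK in
theorem OExt.tau_mul (p q : Kˣ × Kˣ) : tau σ (p * q) = tau σ p * tau σ q := by
  have h := O.torus_comm hK (x := phi σ 1 (1, p.2 ^ 2 ^ (2 * m)))
    (y := phi σ 0 (q.1 ^ 2 ^ (2 * m), 1))
    (by rw [O.im_phi hK]; exact ⟨_, rfl⟩) (by rw [O.im_phi hK]; exact ⟨_, rfl⟩)
  simp only [tau]
  rw [show (((p * q).1 ^ 2 ^ (2 * m), 1) : Kˣ × Kˣ) =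
      (p.1 ^ 2 ^ (2 * m), 1) * (q.1 ^ 2 ^ (2 * m), 1) by simp [mul_pow],
    show ((1, (p * q).2 ^ 2 ^ (2 * m)) : Kˣ × Kˣ) =
      (1, p.2 ^ 2 ^ (2 * m)) * (1, q.2 ^ 2 ^ (2 * m)) by simp [mul_pow],
    O.phi_mul hK, O.phi_mul hK]
  simp only [mul_assoc]
  rw [← mul_assoc (phi σ 0 (q.1 ^ 2 ^ (2 * m), 1)), ← h, mul_assoc]

include hK in
theorem OExt.phi_mem (a : Fin 2) (p : Kˣ × Kˣ) :
    phi σ a p = tau σ (p * (sAct m a p)⁻¹) := by
  have key : ∀ q, p * (sAct m a p)⁻¹ = q * (sAct m a q)⁻¹ → phi σ a p = phi σ a q := by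
    intro q hq
    have hs : sAct m a (p * q⁻¹) = sAct m a p * (sAct m a q)⁻¹ := by
      obtain rfl | rfl : a = 0 ∨ a = 1 := by omega
      · simp [sAct, mul_comm, mul_left_comm, mul_assoc]
      · simp [sAct, mul_pow, mul_comm, mul_left_comm, mul_assoc]
    have h1 : phi σ a (p * q⁻¹) = 1 := O.phi_eq_one hK a (by
      rw [hs]
      calc p * q⁻¹ = p * (sAct m a p)⁻¹ * (sAct m a p * q⁻¹) := by group
        _ = q * q⁻¹ * (sAct m a p * (sAct m a q)⁻¹) := by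
          rw [hq]; simp [mul_comm, mul_left_comm, mul_assoc]
        _ = _ := by rw [mul_inv_cancel, one_mul])
    rw [show p = p * q⁻¹ * q by group, O.phi_mul hK, h1, one_mul]
  obtain rfl | rfl : a = 0 ∨ a = 1 := by omega
  · rw [tau, key ((p * (sAct m 0 p)⁻¹).1 ^ 2 ^ (2 * m), 1) (Prod.ext (by
        simp [sAct, ← pow_two, sqrt_unit hK]) (by simp [sAct])),
      show ((1, (p * (sAct m 0 p)⁻¹).2 ^ 2 ^ (2 * m)) : Kˣ × Kˣ) = 1 by simp [sAct, Prod.ext_iff],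
      O.phi_eq_one hK 1 (p := 1) (by simp [sAct, Prod.ext_iff]), mul_one]
  · rw [tau, key (1, (p * (sAct m 1 p)⁻¹).2 ^ 2 ^ (2 * m)) (Prod.ext (by simp [sAct])
        (by simp [sAct, ← pow_two, sqrt_unit hK])),
      show (((p * (sAct m 1 p)⁻¹).1 ^ 2 ^ (2 * m), 1) : Kˣ × Kˣ) = 1 by simp [sAct, Prod.ext_iff],
      O.phi_eq_one hK 0 (p := 1) (by simp [sAct, Prod.ext_iff]), one_mul]

include hK in
theorem OExt.sL_tau (a : Fin 2) (p : Kˣ × Kˣ) :
    sL σ a * tau σ p * sL σ a = tau σ (sAct m a p) := by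
  have e := O.phi_eq hK a (p := p⁻¹) (x := (tau σ p)⁻¹) (by rw [map_inv, O.im_tau hK, map_inv])
  rw [inv_inv] at e
  rw [show sL σ a * tau σ p * sL σ a =
      tau σ p * ((tau σ p)⁻¹ * sL σ a * tau σ p * sL σ a) by group, ← e, O.phi_mem hK,
    ← O.tau_mul hK]
  congr 1
  obtain rfl | rfl : a = 0 ∨ a = 1 := by omega
  · simp [sAct, Prod.ext_iff, mul_comm, mul_left_comm, mul_assoc]
  · simp [sAct, Prod.ext_iff, mul_comm, mul_left_comm, mul_assoc]

end ReeF4Mult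

end Cfsg.Agent.Chev
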