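import Cfsg.Agent.Chev.ReeF4Mult.Odd

/-!
The rank one relations hold in a central extension of `²F₄(q)` with kernel of odd order.
-/

set_option autoImplicit false
set_option maxRecDepth 100000
set_option maxHeartbeats 1000000

namespace Cfsg.Agent.Chev

open Cfsg.Lie
open scoped MatrixGroups

universe u v

namespace ReeF4Mult

open ReeF4 ReeF4Invol

variable {K : Type u} [Field K] [CharP K 2] {m : ℕ}

theorem yB_mul (hm : IsTheta K m) (t u t' u' : K) :
    yB m t u * yB m t' u' = yB m (t + t') (u + u' + th K m t * t') := by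
  simp only [yB, W4_mul]
  have h1 := th_th hm t
  congr 1
  · rw [map_add]
  · simp only [map_add]
    linear_combination (-(th K m t * t')) * two_eq (K := K)
  · simp only [map_add, map_mul, CharTwo.add_sq, mul_pow, h1]
    ring

theorem yB_inv (hm : IsTheta K m) (t u : K) : (yB m t u)⁻¹ = yB m t (u + th K m t * t) := by
  refine inv_eq_of_mul_eq_one_right ?_
  rw [yB_mul hm, CharTwo.add_self_eq_zero, show u + (u + th K m t * t) + th K m t * t = 0 by
    linear_combination (u + th K m t * t) * two_eq (K := K), yB0]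

theorem chi_left (a : Kˣ) : chi m 1 (a, (1 : Kˣ)) = a⁻¹ := by simp [chi, ev, exps]

theorem chi_two (a : Kˣ) : chi m 2 (sAct m 1 (a, (1 : Kˣ))) = a * uT m a := by
  simp [chi, ev, exps, sAct, mul_comm, mul_left_comm, mul_assoc, pow_two]

theorem sAct_one_sAct (p : Kˣ × Kˣ) : sAct m 1 (sAct m 1 p) = p := by
  refine Prod.ext (by simp [sAct]) ?_
  show p.1 ^ 2 * uT m p.1 ^ 2 * (p.1 ^ 2 * uT m p.1 ^ 2 * p.2⁻¹)⁻¹ = p.2
  rw [mul_inv_rev, inv_inv, mul_comm p.2, mul_inv_cancel_left]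

theorem eq_one_of_mul_uT (hm : IsTheta K m) {a : Kˣ} (h : a * uT m a = 1) : a = 1 := by
  have e : uT m a = a⁻¹ := eq_inv_of_mul_eq_one_right h
  have e2 := uT_uT hm a
  rw [e, map_inv, e, inv_inv, pow_two] at e2
  exact mul_eq_left.1 e2

variable [Fintype K] (hK : Fintype.card K = 2 ^ (2 * m + 1))
  {Γ : Type v} [Group Γ] {σ : Γ →* ↥(twistedF4 K (2 ^ m))}

include hK in
theorem tor_conj_yB (p : Kˣ × Kˣ) (t u : K) :
    tor m p * yB m t u * (tor m p)⁻¹ =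
      yB m ((chi m 1 p : K) * t) ((chi m 2 p : K) * u) := by
  rw [yB_split', yB_split' ((chi m 1 p : K) * t), ← _root_.conj_mul, ← (P_sgl t).2.1,
    ← (P_sgl u).2.2.1, tor_conj_sgl hK, tor_conj_sgl hK, (P_sgl _).2.1, (P_sgl _).2.2.1]

include hK in
theorem tor_conj_U1 (p : Kˣ × Kˣ) {g : GL chevF4.Idx K} (hg : g ∈ U1 K m) :
    tor m p * g * (tor m p)⁻¹ ∈ U1 K m := by
  rw [U1_eq_fm] at hg ⊢
  exact torus_conj_fm (isTheta hK) ⟨p, rfl⟩ hg

include hK in
theorem yB_U1 (t u : K) : yB m t u ∈ U1 K m := fm_le_U1 _ (yB_mem_fm (isTheta hK) t u)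

/-- A lift of a big cell of a rank one group. -/
def InCell (σ : Γ →* ↥(twistedF4 K (2 ^ m))) (a : Fin 2) (g : Γ) : Prop :=
  ∃ v ∈ U1 K m, ∃ q : Kˣ × Kˣ, ∃ x ∈ fm K m (wA a),
    g = lft σ v * tau σ q * sL σ a * lft σ x

/-- The rank one relation holds at `y`. -/
def Good (σ : Γ →* ↥(twistedF4 K (2 ^ m))) (a : Fin 2) (y : GL chevF4.Idx K) : Prop :=
  InCell σ a (sL σ a * lft σ y * sL σ a)

variable [Finite Γ] (O : OExt σ) (hm1 : 1 ≤ m)
include hK O hm1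

theorem OExt.lft_inv {g : GL chevF4.Idx K} (hg : g ∈ U1 K m) : lft σ g⁻¹ = (lft σ g)⁻¹ := by
  refine (inv_eq_of_mul_eq_one_right ?_).symm
  rw [← O.lft_mul hK hm1 hg (inv_mem hg), mul_inv_cancel, O.lft_one]

omit [Finite Γ] hm1 in
theorem OExt.im_lft' {g : GL chevF4.Idx K} (hg : g ∈ U1 K m) : im σ (lft σ g) = g :=
  O.im_lft (U1_le_G1 hg) (U1_pow hK hg)

omit [Finite Γ] hm1 in
theorem OExt.tau_lft (p : Kˣ × Kˣ) {g : GL chevF4.Idx K} (hg : g ∈ U1 K m) :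
    tau σ p * lft σ g = lft σ (tor m p * g * (tor m p)⁻¹) * tau σ p := by
  rw [← O.im_tau hK p, ← O.lft_conj _ (U1_le_G1 hg) (U1_pow hK hg), inv_mul_cancel_right]

omit [Finite Γ] hm1 in
theorem OExt.tau_one : tau σ (1 : Kˣ × Kˣ) = 1 := by
  have h := O.tau_mul hK 1 1
  rw [mul_one] at h
  exact left_eq_mul.mp h

omit [Finite Γ] hm1 in
theorem OExt.tau_inv (p : Kˣ × Kˣ) : tau σ p⁻¹ = (tau σ p)⁻¹ := by
  refine (inv_eq_of_mul_eq_one_right ?_).symm
  rw [← O.tau_mul hK, mul_inv_cancel, O.tau_one hK]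

omit [Finite Γ] hm1 in
theorem OExt.tau_sL (a : Fin 2) (p : Kˣ × Kˣ) :
    tau σ p * sL σ a = sL σ a * tau σ (sAct m a p) := by
  rw [← O.sL_tau hK, ← mul_assoc, ← mul_assoc, O.sL_sq, one_mul]

omit [Finite Γ] hm1 in
theorem OExt.sL_tau' (a : Fin 2) (p : Kˣ × Kˣ) :
    sL σ a * tau σ p = tau σ (sAct m a p) * sL σ a := by
  rw [← O.sL_tau hK, mul_assoc _ (sL σ a) (sL σ a), O.sL_sq, mul_one]

omit [Finite Γ] hm1 in
theorem OExt.sL_lft (a : Fin 2) {g : GL chevF4.Idx K} (hg : g ∈ U1 K m) :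
    sL σ a * lft σ g = lft σ (sO a * g * sO a) * sL σ a := by
  have h := O.lft_conj (sL σ a) (U1_le_G1 hg) (U1_pow hK hg)
  rw [O.im_sL, sO_inv] at h
  rw [← h, inv_mul_cancel_right]

theorem OExt.absorb (a : Fin 2) {v w : GL chevF4.Idx K} (hv : v ∈ U1 K m) (q : Kˣ × Kˣ)
    (hw : w ∈ U1 K m) : InCell σ a (lft σ v * tau σ q * sL σ a * lft σ w) := by
  obtain ⟨c, hc, b, hb, hcf, hbf, rfl⟩ := split_fx (isMon_sO a) (rho_wA a) hw.1 hw.2
  have hb' : b ∈ U1 K m := fm_le_U1 _ ⟨hb, hbf⟩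
  have hc' : c ∈ U1 K m := (Subgroup.mul_mem_cancel_right _ hb').1 hw
  have hsc : sO a * c * sO a ∈ U1 K m := by
    have h1 := conj_uPlus facts_chevF4 (isMon_sO a) hc
    rw [sO_inv] at h1
    exact ⟨h1, Subgroup.mul_mem _ (Subgroup.mul_mem _ (sO_mem_fx a) hcf) (sO_mem_fx a)⟩
  refine ⟨_, mul_mem hv (tor_conj_U1 hK q hsc), q, b, ⟨hb, hbf⟩, ?_⟩
  calc lft σ v * tau σ q * sL σ a * lft σ (c * b)
      = lft σ v * tau σ q * (sL σ a * lft σ c) * lft σ b := by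
        rw [O.lft_mul hK hm1 hc' hb']; simp only [mul_assoc]
    _ = lft σ v * (tau σ q * lft σ (sO a * c * sO a)) * sL σ a * lft σ b := by
        rw [O.sL_lft hK a hc']; simp only [mul_assoc]
    _ = _ := by
        rw [O.tau_lft hK q hsc, O.lft_mul hK hm1 hv (tor_conj_U1 hK q hsc)]; simp only [mul_assoc]

theorem InCell.lft_left {a : Fin 2} {g : Γ} (h : InCell σ a g) {w : GL chevF4.Idx K}
    (hw : w ∈ U1 K m) : InCell σ a (lft σ w * g) := by
  obtain ⟨v, hv, q, x, hx, rfl⟩ := h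
  refine ⟨w * v, mul_mem hw hv, q, x, hx, ?_⟩
  rw [O.lft_mul hK hm1 hw hv]
  simp only [mul_assoc]

omit [Finite Γ] hm1 in
theorem InCell.tau_left {a : Fin 2} {g : Γ} (h : InCell σ a g) (p : Kˣ × Kˣ) :
    InCell σ a (tau σ p * g) := by
  obtain ⟨v, hv, q, x, hx, rfl⟩ := h
  refine ⟨_, tor_conj_U1 hK p hv, p * q, x, hx, ?_⟩
  rw [O.tau_mul hK, ← mul_assoc, ← mul_assoc, ← mul_assoc, O.tau_lft hK p hv]
  simp only [mul_assoc]

theorem InCell.lft_right {a : Fin 2} {g : Γ} (h : InCell σ a g) {w : GL chevF4.Idx K}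
    (hw : w ∈ U1 K m) : InCell σ a (g * lft σ w) := by
  obtain ⟨v, hv, q, x, hx, rfl⟩ := h
  rw [mul_assoc _ (lft σ x) (lft σ w), ← O.lft_mul hK hm1 (fm_le_U1 _ hx) hw]
  exact O.absorb hK hm1 a hv q (mul_mem (fm_le_U1 _ hx) hw)

theorem InCell.tau_right {a : Fin 2} {g : Γ} (h : InCell σ a g) (p : Kˣ × Kˣ) :
    InCell σ a (g * tau σ p) := by
  obtain ⟨v, hv, q, x, hx, rfl⟩ := h
  have hx' := tor_conj_U1 hK p⁻¹ (fm_le_U1 _ hx)
  have e : lft σ x * tau σ p = tau σ p * lft σ (tor m p⁻¹ * x * (tor m p⁻¹)⁻¹) := by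
    have h1 := O.tau_lft hK p⁻¹ (fm_le_U1 _ hx)
    rw [O.tau_inv hK] at h1
    calc lft σ x * tau σ p = tau σ p * ((tau σ p)⁻¹ * lft σ x) * tau σ p := by group
      _ = _ := by rw [h1]; group
  rw [mul_assoc _ (lft σ x) (tau σ p), e, ← mul_assoc, mul_assoc _ (sL σ a) (tau σ p),
    O.sL_tau' hK, ← mul_assoc, mul_assoc _ (tau σ q) (tau σ _), ← O.tau_mul hK]
  exact O.absorb hK hm1 a hv _ hx'

omit [Finite Γ] hm1 in
theorem OExt.cell_inj {a : Fin 2} {g g' : Γ} (h : InCell σ a g) (h' : InCell σ a g')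
    (e : im σ g = im σ g') : g = g' := by
  obtain ⟨v, hv, q, x, hx, rfl⟩ := h
  obtain ⟨v', hv', q', x', hx', rfl⟩ := h'
  simp only [map_mul, O.im_lft' hK hv, O.im_lft' hK hv', O.im_lft' hK (fm_le_U1 _ hx),
    O.im_lft' hK (fm_le_U1 _ hx'), O.im_tau hK, O.im_sL] at e
  have e1 : sO a * (x * x'⁻¹) * sO a = (v * tor m q)⁻¹ * (v' * tor m q') := by
    calc sO a * (x * x'⁻¹) * sO a
        = (v * tor m q)⁻¹ * (v * tor m q * sO a * x) * x'⁻¹ * sO a := by group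
      _ = (v * tor m q)⁻¹ * (v' * tor m q') * (sO a * sO a) := by rw [e]; group
      _ = _ := by rw [sO_sq, mul_one]
  have hxx : x = x' := mul_inv_eq_one.1 (by
    by_contra h1
    refine conj_sO_not_mem (mul_mem hx (inv_mem hx')) h1 ?_
    rw [e1]
    exact Subgroup.mul_mem _ (Subgroup.inv_mem _ (Subgroup.mul_mem _ (Subgroup.mem_sup_left hv.1)
      (Subgroup.mem_sup_right (tor_mem_diagonal q)))) (Subgroup.mul_mem _
      (Subgroup.mem_sup_left hv'.1) (Subgroup.mem_sup_right (tor_mem_diagonal q'))))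
  subst hxx
  have e2 : v'⁻¹ * v = tor m q' * (tor m q)⁻¹ := by
    have := mul_right_cancel (mul_right_cancel e)
    rw [eq_mul_inv_iff_mul_eq, mul_assoc, this, inv_mul_cancel_left]
  have e3 : v'⁻¹ * v = 1 := (Subgroup.mem_bot.1 ((posUnipotent_inf_diagonal facts_chevF4).le
    ⟨(mul_mem (inv_mem hv') hv : v'⁻¹ * v ∈ U1 K m).1, e2 ▸ Subgroup.mul_mem _
      (tor_mem_diagonal q') (Subgroup.inv_mem _ (tor_mem_diagonal q))⟩))
  rw [e3] at e2
  rw [← inv_mul_eq_one.1 e3, tor_injective (mul_inv_eq_one.1 e2.symm)]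

omit [Finite Γ] hm1 in
theorem OExt.im_conj (a : Fin 2) {y : GL chevF4.Idx K} (hy : y ∈ fm K m (wA a)) :
    im σ (sL σ a * lft σ y * sL σ a) = sO a * y * sO a := by
  simp only [map_mul, O.im_sL, O.im_lft' hK (fm_le_U1 _ hy)]

theorem OExt.good_involution {a : Fin 2} {y : GL chevF4.Idx K} (hy : y ∈ fm K m (wA a))
    (h1 : y ≠ 1) (h2 : y * y = 1) : Good σ a y := by
  obtain ⟨v, hv, h, ⟨q, rfl⟩, x, hx, e⟩ := rank_one_cell hy h1
  set L := sL σ a * lft σ y * sL σ a with hL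
  set C := lft σ v * tau σ q * sL σ a * lft σ x with hC
  have hLC : im σ L = im σ C := by
    rw [hL, O.im_conj hK a hy, e, hC]
    simp only [map_mul, O.im_lft' hK hv, O.im_lft' hK (fm_le_U1 _ hx), O.im_tau hK, O.im_sL]
  have hLL : L * L = 1 := by
    calc L * L = sL σ a * lft σ y * (sL σ a * sL σ a) * lft σ y * sL σ a := by
          simp only [hL, mul_assoc]
      _ = sL σ a * (lft σ y * lft σ y) * sL σ a := by rw [O.sL_sq, mul_one]; simp only [mul_assoc]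
      _ = 1 := by
          rw [← O.lft_mul hK hm1 (fm_le_U1 _ hy) (fm_le_U1 _ hy), h2, O.lft_one, mul_one, O.sL_sq]
  have hCinv : InCell σ a C⁻¹ := by
    have e1 : C⁻¹ = lft σ x⁻¹ * tau σ (sAct m a q⁻¹) * sL σ a * lft σ v⁻¹ := by
      rw [hC, mul_assoc (lft σ x⁻¹), ← O.sL_tau' hK, O.lft_inv hK hm1 hv,
        O.lft_inv hK hm1 (fm_le_U1 _ hx), O.tau_inv hK, mul_inv_rev, mul_inv_rev, mul_inv_rev,
        O.sL_inv]
      simp only [mul_assoc]
    rw [e1]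
    exact O.absorb hK hm1 a (inv_mem (fm_le_U1 _ hx)) _ (inv_mem hv)
  have hCC : C⁻¹ = C := by
    refine O.cell_inj hK hCinv ⟨v, hv, q, x, hx, rfl⟩ ?_
    rw [map_inv, ← hLC, ← map_inv, inv_eq_of_mul_eq_one_right hLL]
  have hz : im σ (L * C⁻¹) = 1 := by rw [map_mul, map_inv, hLC, mul_inv_cancel]
  have hcen := Subgroup.mem_center_iff.1 (im_one O.cen hz)
  refine ⟨v, hv, q, x, hx, mul_inv_eq_one.1 (O.eq_one_of_sq hz ?_)⟩
  have hc := hcen L
  rw [← mul_assoc, hLL, one_mul, hCC] at hc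
  rw [hCC, ← mul_assoc, ← hc]
  conv_lhs => arg 1; rw [← hCC]
  exact inv_mul_cancel _

theorem Good.conj {a : Fin 2} {y : GL chevF4.Idx K} (hy : y ∈ U1 K m) (h : Good σ a y)
    (p : Kˣ × Kˣ) : Good σ a (tor m p * y * (tor m p)⁻¹) := by
  have e : sL σ a * lft σ (tor m p * y * (tor m p)⁻¹) * sL σ a =
      tau σ (sAct m a p) * (sL σ a * lft σ y * sL σ a) * (tau σ (sAct m a p))⁻¹ := by
    rw [← O.sL_tau hK, ← O.im_tau hK p, ← O.lft_conj _ (U1_le_G1 hy) (U1_pow hK hy),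
      mul_inv_rev, mul_inv_rev, O.sL_inv]
    calc sL σ a * (tau σ p * lft σ y * (tau σ p)⁻¹) * sL σ a
        = sL σ a * tau σ p * (sL σ a * sL σ a) * lft σ y * (sL σ a * sL σ a) *
            ((tau σ p)⁻¹ * sL σ a) := by rw [O.sL_sq]; group
      _ = _ := by simp only [mul_assoc]
  rw [Good, e, ← O.tau_inv hK]
  exact (h.tau_left hK O _).tau_right hK O hm1 _

theorem OExt.middle {a : Fin 2} {y y' v v' x x' : GL chevF4.Idx K} {q q' : Kˣ × Kˣ}
    (hy : y ∈ U1 K m) (hy' : y' ∈ U1 K m) (hv : v ∈ U1 K m) (hx : x ∈ U1 K m)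
    (hv' : v' ∈ U1 K m) (hx' : x' ∈ U1 K m)
    (e : sL σ a * lft σ y * sL σ a = lft σ v * tau σ q * sL σ a * lft σ x)
    (e' : sL σ a * lft σ y' * sL σ a = lft σ v' * tau σ q' * sL σ a * lft σ x')
    (h : Good σ a (y * y')) : Good σ a (x * v') := by
  have ee : sL σ a * lft σ (x * v') * sL σ a = tau σ q⁻¹ * (lft σ v⁻¹ *
      (sL σ a * lft σ (y * y') * sL σ a)) * lft σ x'⁻¹ * tau σ (sAct m a q')⁻¹ := by
    have h1 : sL σ a * lft σ (y * y') * sL σ a =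
        lft σ v * tau σ q * sL σ a * lft σ x * (lft σ v' * tau σ q' * sL σ a * lft σ x') := by
      rw [← e, ← e', O.lft_mul hK hm1 hy hy']
      calc sL σ a * (lft σ y * lft σ y') * sL σ a
          = sL σ a * lft σ y * (sL σ a * sL σ a) * lft σ y' * sL σ a := by
            rw [O.sL_sq]; group
        _ = _ := by simp only [mul_assoc]
    rw [h1, mul_assoc (lft σ v') (tau σ q'), O.tau_sL hK, O.lft_inv hK hm1 hv,
      O.lft_inv hK hm1 hx', O.tau_inv hK, O.tau_inv hK, O.lft_mul hK hm1 hx hv']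
    group
  rw [Good, ee]
  exact (((h.lft_left hK O hm1 (inv_mem hv)).tau_left hK O _).lft_right hK O hm1
    (inv_mem hx')).tau_right hK O hm1 _

omit [Finite Γ] hm1 in
theorem OExt.good_data {a : Fin 2} {y v x : GL chevF4.Idx K} {q : Kˣ × Kˣ}
    (hy : y ∈ fm K m (wA a)) (hv : v ∈ U1 K m) (hx : x ∈ fm K m (wA a)) (h : Good σ a y)
    (e : sO a * y * sO a = v * tor m q * sO a * x) :
    sL σ a * lft σ y * sL σ a = lft σ v * tau σ q * sL σ a * lft σ x := by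
  refine O.cell_inj hK h ⟨v, hv, q, x, hx, rfl⟩ ?_
  rw [O.im_conj hK a hy, e]
  simp only [map_mul, O.im_lft' hK hv, O.im_lft' hK (fm_le_U1 _ hx), O.im_tau hK, O.im_sL]

omit [Finite Γ] hm1 O in
theorem rank_one_id : (sO 1 : GL chevF4.Idx K) * yB m (0 : K) 1 * sO 1 =
    yB m (1 : K) 1 * sO 1 * yB m (1 : K) 0 := by
  have h := sO_one_eq (K := K) (m := m)
  have hi : yB m (0 : K) 1 * yB m 0 1 = 1 := by
    rw [yB_mul (isTheta hK), add_zero, CharTwo.add_self_eq_zero, mul_zero, add_zero, yB0]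
  calc sO 1 * yB m (0 : K) 1 * sO 1
      = sO 1 * yB m (0 : K) 1 * (yB m (0 : K) 1 * (sO 1 * yB m 1 1 * sO 1) * yB m (1 : K) 0) := by rw [← h]
    _ = sO 1 * (yB m (0 : K) 1 * yB m 0 1) * sO 1 * (yB m (1 : K) 1 * sO 1 * yB m (1 : K) 0) := by group
    _ = _ := by rw [hi, mul_one, sO_sq, one_mul]

theorem OExt.good_all {a : Fin 2} {y : GL chevF4.Idx K} (hy : y ∈ fm K m (wA a)) (h1 : y ≠ 1) :
    Good σ a y := by
  have hm := isTheta hK
  obtain rfl | rfl : a = 0 ∨ a = 1 := by omega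
  · obtain ⟨t, rfl⟩ := mem_fm_A hy
    refine O.good_involution hK hm1 hy h1 ?_
    rw [yAadd, CharTwo.add_self_eq_zero, yA0]
  have hinv : ∀ u : K, u ≠ 0 → Good σ 1 (yB m 0 u) := fun u hu => by
    refine O.good_involution hK hm1 (yB_mem_fm hm 0 u) (fun e => hu ?_) ?_
    · rw [← yB0 (m := m), yB, yB] at e
      have := (W4_injective e).2.2.1
      simpa using this
    · rw [yB_mul hm, add_zero, CharTwo.add_self_eq_zero, mul_zero, add_zero, yB0]
  have U := yB_U1 (m := m) hK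
  have ei : sL σ 1 * lft σ (yB m 0 1) * sL σ 1 =
      lft σ (yB m 1 1) * tau σ 1 * sL σ 1 * lft σ (yB m 1 0) :=
    O.good_data hK (yB_mem_fm hm 0 1) (U 1 1) (yB_mem_fm hm 1 0) (hinv 1 one_ne_zero)
      (by rw [map_one, mul_one]; exact rank_one_id hK)
  have h11 : (yB m (1 : K) 0)⁻¹ = yB m 1 1 := by rw [yB_inv hm]; simp
  have hL1 : lft σ (yB m 1 1) = (lft σ (yB m 1 0))⁻¹ := by
    rw [← O.lft_inv hK hm1 (U 1 0), h11]
  have e11 : sL σ 1 * lft σ (yB m 1 1) * sL σ 1 =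
      lft σ (yB m 0 1) * tau σ 1 * sL σ 1 * lft σ (yB m 1 1) := by
    rw [O.tau_one hK, mul_one] at ei ⊢
    calc sL σ 1 * lft σ (yB m 1 1) * sL σ 1
        = sL σ 1 * (lft σ (yB m 1 1) * sL σ 1 * lft σ (yB m 1 0)) * lft σ (yB m 1 1) := by
          rw [hL1]; group
      _ = sL σ 1 * sL σ 1 * lft σ (yB m 0 1) * sL σ 1 * lft σ (yB m 1 1) := by
          rw [← ei]; group
      _ = _ := by rw [O.sL_sq, one_mul]
  have g11 : Good σ 1 (yB m 1 1) := ⟨_, U 0 1, 1, _, yB_mem_fm hm 1 1, e11⟩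
  have g10 : Good σ 1 (yB m 1 0) := by
    refine ⟨_, U 1 0, 1, _, yB_mem_fm hm 0 1, ?_⟩
    have hi : (lft σ (yB m (0 : K) 1))⁻¹ = lft σ (yB m 0 1) := by
      rw [← O.lft_inv hK hm1 (U 0 1), yB_inv hm]; simp
    rw [← inv_inv (lft σ (yB m 1 0)), ← hL1]
    have h := congrArg (·⁻¹) e11
    rw [O.tau_one hK, mul_one] at h ⊢
    simp only [mul_inv_rev, O.sL_inv, hi] at h
    simpa only [mul_assoc] using h
  have gc : ∀ c : K, Good σ 1 (yB m 1 c) := fun c => by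
    by_cases hc0 : c = 0
    · rw [hc0]; exact g10
    by_cases hc1 : c = 1
    · rw [hc1]; exact g11
    have hd : 1 + c ≠ 0 := fun e => hc1 (eq_of_add_eq_zero' e).symm
    let ρ : Kˣ := Units.mk0 (c / (1 + c)) (div_ne_zero hc0 hd)
    have hρv : (ρ : K) = c / (1 + c) := rfl
    have hρ : ρ ≠ 1 := fun e => by
      have e' : c / (1 + c) = 1 := by rw [← hρv, e]; rfl
      rw [div_eq_one_iff_eq hd] at e'
      exact one_ne_zero (show (1 : K) = 0 by linear_combination -e')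
    obtain ⟨p, hp⟩ : ∃ p : Kˣ × Kˣ, p = sAct m 1 (ρ⁻¹, 1) := ⟨_, rfl⟩
    have hsp : sAct m 1 p = (ρ⁻¹, 1) := by rw [hp]; exact sAct_one_sAct _
    set i : GL chevF4.Idx K := yB m 0 1
    have hy' : tor m p * i * (tor m p)⁻¹ = yB m 0 ((ρ⁻¹ * uT m ρ⁻¹ : Kˣ) : K) := by
      rw [tor_conj_yB hK, mul_zero, mul_one, hp, chi_two]
    have hμ : (1 : K) + ((ρ⁻¹ * uT m ρ⁻¹ : Kˣ) : K) ≠ 0 := fun e => by
      have := eq_one_of_mul_uT hm (Units.ext (eq_of_add_eq_zero' e).symm :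
        ρ⁻¹ * uT m ρ⁻¹ = 1)
      exact hρ (inv_eq_one.1 this)
    have e' : sL σ 1 * lft σ (tor m p * i * (tor m p)⁻¹) * sL σ 1 =
        lft σ (tor m (sAct m 1 p) * yB m 1 1 * (tor m (sAct m 1 p))⁻¹) *
          tau σ (sAct m 1 p * p⁻¹) * sL σ 1 *
          lft σ (tor m (sAct m 1 p) * yB m 1 0 * (tor m (sAct m 1 p))⁻¹) := by
      refine O.good_data hK ?_ (tor_conj_U1 hK _ (U 1 1)) ?_
        ((hinv 1 one_ne_zero).conj hK O hm1 (U 0 1) p) ?_
      · rw [hy']; exact yB_mem_fm hm _ _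
      · exact torus_conj_fm hm ⟨_, rfl⟩ (yB_mem_fm hm 1 0)
      · have es : sO 1 * tor m p = (tor m (sAct m 1 p) : GL chevF4.Idx K) * sO 1 := by
          rw [← sO_tor hm, mul_assoc _ (sO 1) (sO 1), sO_sq, mul_one]
        have es' : (tor m p)⁻¹ * sO 1 = sO 1 * (tor m (sAct m 1 p))⁻¹ := by
          rw [← sO_tor hm, mul_inv_rev, mul_inv_rev, sO_inv, ← mul_assoc, sO_sq, one_mul]
        calc sO 1 * (tor m p * i * (tor m p)⁻¹) * sO 1
            = (sO 1 * tor m p) * i * ((tor m p)⁻¹ * sO 1) := by simp only [mul_assoc]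
          _ = tor m (sAct m 1 p) * (sO 1 * i * sO 1) * (tor m (sAct m 1 p))⁻¹ := by
              rw [es, es']; simp only [mul_assoc]
          _ = tor m (sAct m 1 p) * yB m 1 1 * (tor m p)⁻¹ * (tor m p * sO 1) * yB m 1 0 *
              (tor m (sAct m 1 p))⁻¹ := by rw [rank_one_id hK]; group
          _ = _ := by
              rw [show tor m p * sO 1 = sO 1 * tor m (sAct m 1 p) by
                rw [← sO_tor hm, ← mul_assoc, ← mul_assoc, sO_sq, one_mul]]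
              rw [map_mul, map_inv]
              group
    have hg := O.middle hK hm1 (U 0 1) (tor_conj_U1 hK _ (U 0 1)) (U 1 1) (U 1 0)
      (tor_conj_U1 hK _ (U 1 1)) (tor_conj_U1 hK _ (U 1 0)) ei e' (by
        rw [hy', yB_mul hm, zero_add, mul_zero, add_zero]; exact hinv _ hμ)
    rw [hsp, tor_conj_yB hK, chi_left, inv_inv, (chi_compound hm (ρ⁻¹, (1 : Kˣ))).1, chi_left,
      inv_inv, yB_mul hm, map_one, one_mul, mul_one, mul_one, zero_add] at hg
    have hd' : (1 : K) + ρ ≠ 0 := fun e => hρ (Units.ext (eq_of_add_eq_zero' e).symm)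
    have hg' := hg.conj hK O hm1 (U _ _) (Units.mk0 (1 + (ρ : K)) hd', 1)
    rw [tor_conj_yB hK, (chi_compound hm _).1, chi_left] at hg'
    simp only [Units.val_inv_eq_inv_val, Units.val_mk0, Units.val_mul, uT_val, map_inv₀,
      inv_mul_cancel₀ hd'] at hg'
    have ht' : (1 : K) + th K m (ρ : K) ≠ 0 := by
      rw [← map_one (th K m), ← map_add]
      exact fun e => hd' ((map_eq_zero _).1 e)
    convert hg' using 2
    rw [map_add, map_one]
    have hc' : c = (ρ : K) / (1 + ρ) := by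
      have h1 : (1 : K) + ρ = (1 + c)⁻¹ := by
        rw [hρv]
        field_simp
        linear_combination c * two_eq (K := K)
      rw [h1, hρv, div_inv_eq_mul, div_mul_cancel₀ _ hd]
    rw [hc']
    field_simp
    ring
  obtain ⟨t, u, rfl⟩ := mem_fm_B hy
  by_cases ht : t = 0
  · subst ht
    refine hinv u fun e => h1 ?_
    rw [e, yB0]
  · have hg := (gc (u / (th K m t * t))).conj hK O hm1 (U 1 _) ((Units.mk0 t ht)⁻¹, 1)
    rw [tor_conj_yB hK, (chi_compound hm _).1, chi_left, inv_inv] at hg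
    simp only [Units.val_mk0, Units.val_mul, uT_val, mul_one] at hg
    have : th K m t ≠ 0 := fun e => ht ((map_eq_zero _).1 e)
    rwa [show th K m t * t * (u / (th K m t * t)) = u by field_simp] at hg

end ReeF4Mult

end Cfsg.Agent.Chev
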