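import Cfsg.Agent.Chev.ReeF4Mult.RankOne

/-!
The lifts of the two-elements, the torus and the Weyl group generate a complement of a kernel of odd
order, by the Bruhat decomposition.
-/

set_option autoImplicit false
set_option maxRecDepth 100000
set_option maxHeartbeats 1000000

namespace Cfsg.Agent.Chev

open Cfsg.Lie
open scoped MatrixGroups

universe u v

namespace ReeF4Mult

open ReeF4 ReeF4Invol

variable {K : Type u} [Field K] [CharP K 2] {m : ℕ} [Fintype K]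
  (hK : Fintype.card K = 2 ^ (2 * m + 1))
  {Γ : Type v} [Group Γ] {σ : Γ →* ↥(twistedF4 K (2 ^ m))}

/-- A lift of a double coset of the Borel subgroup. -/
def InSec (σ : Γ →* ↥(twistedF4 K (2 ^ m))) (g : Γ) : Prop :=
  ∃ v ∈ U1 K m, ∃ p : Kˣ × Kˣ, ∃ ws : List (Fin 2), ∃ x ∈ U1 K m,
    g = lft σ v * tau σ p * nL σ ws * lft σ x

/-- The generators of the complement. -/
def secGens (σ : Γ →* ↥(twistedF4 K (2 ^ m))) : Set Γ :=
  {g | (∃ v ∈ U1 K m, g = lft σ v) ∨ (∃ p, g = tau σ p) ∨ ∃ a, g = sL σ a}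

variable [Finite Γ] (O : OExt σ) (hm1 : 1 ≤ m)
include hK O hm1

omit [Finite Γ] hm1 in
theorem OExt.nL_lft (ws : List (Fin 2)) {g : GL chevF4.Idx K} (hg : g ∈ U1 K m) :
    nL σ ws * lft σ g = lft σ (nW ws * g * (nW ws)⁻¹) * nL σ ws := by
  rw [← O.im_nL ws, ← O.lft_conj _ (U1_le_G1 hg) (U1_pow hK hg), inv_mul_cancel_right]

theorem InSec.lft_left {g : Γ} (h : InSec σ g) {w : GL chevF4.Idx K} (hw : w ∈ U1 K m) :
    InSec σ (lft σ w * g) := by
  obtain ⟨v, hv, p, ws, x, hx, rfl⟩ := h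
  refine ⟨w * v, mul_mem hw hv, p, ws, x, hx, ?_⟩
  rw [O.lft_mul hK hm1 hw hv]
  simp only [mul_assoc]

omit [Finite Γ] hm1 in
theorem InSec.tau_left {g : Γ} (h : InSec σ g) (r : Kˣ × Kˣ) : InSec σ (tau σ r * g) := by
  obtain ⟨v, hv, p, ws, x, hx, rfl⟩ := h
  refine ⟨_, tor_conj_U1 hK r hv, r * p, ws, x, hx, ?_⟩
  rw [O.tau_mul hK, ← mul_assoc, ← mul_assoc, ← mul_assoc, O.tau_lft hK r hv]
  simp only [mul_assoc]

theorem InSec.sL_left {g : Γ} (h : InSec σ g) (a : Fin 2) : InSec σ (sL σ a * g) := by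
  have hm := isTheta hK
  obtain ⟨v, hv, p, ws, x, hx, rfl⟩ := h
  obtain ⟨c, hc, b, hb, hcf, hbf, rfl⟩ := split_fx (isMon_sO a) (rho_wA a) hv.1 hv.2
  have hb' : b ∈ fm K m (wA a) := ⟨hb, hbf⟩
  have hc' : c ∈ U1 K m := (Subgroup.mul_mem_cancel_right _ (fm_le_U1 _ hb')).1 hv
  have hsc : sO a * c * sO a ∈ U1 K m := by
    have h1 := conj_uPlus facts_chevF4 (isMon_sO a) hc
    rw [sO_inv] at h1
    exact ⟨h1, Subgroup.mul_mem _ (Subgroup.mul_mem _ (sO_mem_fx a) hcf) (sO_mem_fx a)⟩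
  set y := tor m p⁻¹ * b * (tor m p⁻¹)⁻¹ with hy
  have hy' : y ∈ fm K m (wA a) := torus_conj_fm hm ⟨_, rfl⟩ hb'
  have e : lft σ b * tau σ p = tau σ p * lft σ y := by
    have h1 := O.tau_lft hK p⁻¹ (fm_le_U1 _ hb')
    rw [O.tau_inv hK] at h1
    calc lft σ b * tau σ p = tau σ p * ((tau σ p)⁻¹ * lft σ b) * tau σ p := by group
      _ = _ := by rw [h1, ← hy]; group
  suffices H : InSec σ (sL σ a * lft σ y * nL σ ws * lft σ x) by
    convert (H.tau_left hK O (sAct m a p)).lft_left hK O hm1 hsc using 1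
    calc sL σ a * (lft σ (c * b) * tau σ p * nL σ ws * lft σ x)
        = sL σ a * lft σ c * (lft σ b * tau σ p) * nL σ ws * lft σ x := by
          rw [O.lft_mul hK hm1 hc' (fm_le_U1 _ hb')]; simp only [mul_assoc]
      _ = lft σ (sO a * c * sO a) * (sL σ a * tau σ p) * lft σ y * nL σ ws * lft σ x := by
          rw [e, O.sL_lft hK a hc']; simp only [mul_assoc]
      _ = _ := by rw [O.sL_tau' hK]; simp only [mul_assoc]
  have move : ∀ {vs : List (Fin 2)} {z : GL chevF4.Idx K}, z ∈ fm K m (wA a) →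
      IsMin facts_chevF4.{0} (nodes a) (pW vs)⁻¹ →
        lft σ z * nL σ vs = nL σ vs * lft σ ((nW vs)⁻¹ * z * nW vs) := fun hz hmin => by
    rw [O.nL_lft hK _ (conj_fm_mem_U1 hm _ hmin hz)]
    group
  by_cases h1 : y = 1
  · refine ⟨1, one_mem _, 1, a :: ws, x, hx, ?_⟩
    rw [h1, O.lft_one, O.tau_one hK, mul_one, one_mul, one_mul]
    rfl
  rcases isMin_or a (inW1_pW ws).inv with hmin | hmin
  · refine ⟨1, one_mem _, 1, a :: ws, _, mul_mem (conj_fm_mem_U1 hm ws hmin hy') hx, ?_⟩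
    rw [O.lft_one, O.tau_one hK, one_mul, one_mul, mul_assoc (sL σ a), move hy' hmin,
      O.lft_mul hK hm1 (conj_fm_mem_U1 hm ws hmin hy') hx]
    simp [nL, mul_assoc]
  · obtain ⟨v', hv', q, z, hz, eg⟩ := O.good_all hK hm1 hy' h1
    have hmin' : IsMin facts_chevF4.{0} (nodes a) (pW (a :: ws))⁻¹ := by
      rw [pW_cons, mul_inv_rev, wA_inv]
      exact hmin
    have en : nL σ (a :: ws) = sL σ a * nL σ ws := by simp [nL]
    refine ⟨v', hv', q, ws, _, mul_mem (conj_fm_mem_U1 hm (a :: ws) hmin' hz) hx, ?_⟩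
    calc sL σ a * lft σ y * nL σ ws * lft σ x
        = sL σ a * lft σ y * sL σ a * nL σ (a :: ws) * lft σ x := by
          rw [en]; simp only [mul_assoc]; rw [← mul_assoc (sL σ a) (sL σ a), O.sL_sq, one_mul]
      _ = lft σ v' * tau σ q * sL σ a * (lft σ z * nL σ (a :: ws)) * lft σ x := by
          rw [eg]; simp only [mul_assoc]
      _ = _ := by
          rw [move hz hmin', O.lft_mul hK hm1 (conj_fm_mem_U1 hm (a :: ws) hmin' hz) hx, en]
          simp only [mul_assoc]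
          rw [← mul_assoc (sL σ a) (sL σ a), O.sL_sq, one_mul]

omit [Finite Γ] hm1 in
theorem InSec.one : InSec σ (1 : Γ) :=
  ⟨1, one_mem _, 1, [], 1, one_mem _, by simp [O.lft_one, O.tau_one hK, nL]⟩

theorem OExt.closure_inSec {g : Γ} (hg : g ∈ Subgroup.closure (secGens σ)) : InSec σ g := by
  induction hg using Subgroup.closure_induction_left with
  | one => exact InSec.one hK O
  | mul_left s hs y _ ih =>
    rcases hs with ⟨v, hv, rfl⟩ | ⟨p, rfl⟩ | ⟨a, rfl⟩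
    · exact ih.lft_left hK O hm1 hv
    · exact ih.tau_left hK O p
    · exact ih.sL_left hK O hm1 a
  | inv_mul_cancel s hs y _ ih =>
    rcases hs with ⟨v, hv, rfl⟩ | ⟨p, rfl⟩ | ⟨a, rfl⟩
    · rw [← O.lft_inv hK hm1 hv]; exact ih.lft_left hK O hm1 (inv_mem hv)
    · rw [← O.tau_inv hK]; exact ih.tau_left hK O _
    · rw [O.sL_inv]; exact ih.sL_left hK O hm1 a

theorem InSec.eq_one {g : Γ} (h : InSec σ g) (h1 : im σ g = 1) : g = 1 := by
  have hm := isTheta hK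
  obtain ⟨v, hv, p, ws, x, hx, rfl⟩ := h
  simp only [map_mul, O.im_lft' hK hv, O.im_lft' hK hx, O.im_tau hK, O.im_nL] at h1
  have hB : (nW ws : GL chevF4.Idx K) ∈ chevF4.borelSubgroup K ⊓ fx m := by
    rw [show (nW ws : GL chevF4.Idx K) = (v * tor m p)⁻¹ * (v * tor m p * nW ws * x) * x⁻¹ by
      group, h1, mul_one]
    exact Subgroup.mul_mem _ (Subgroup.inv_mem _ ((mem_borel_fx hm).2 ⟨v, hv, _, ⟨p, rfl⟩, rfl⟩))
      (Subgroup.inv_mem _ (U1_le_borel_fx hm hx))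
  have hp : pW ws = pW [] := by
    rw [pW_nil]
    exact (isMon_unique facts_chevF4.{u} (isMon_nW ws)
      (isMon_T1 (borel_monomial_fx hm hB (nW_mem_monomial ws))) :)
  rw [nW_congr hp, nW_nil, mul_one] at h1
  rw [O.nL_congr hp, show nL σ [] = 1 from rfl, mul_one]
  have e2 : tor m p = v⁻¹ * x⁻¹ := by
    rw [eq_inv_mul_iff_mul_eq, eq_inv_iff_mul_eq_one, h1]
  have e3 : tor m p = 1 := Subgroup.mem_bot.1 ((posUnipotent_inf_diagonal facts_chevF4).le
    ⟨e2 ▸ (mul_mem (inv_mem hv) (inv_mem hx) : v⁻¹ * x⁻¹ ∈ U1 K m).1, tor_mem_diagonal p⟩)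
  rw [e3, mul_one] at h1
  rw [tor_injective (e3.trans (map_one _).symm), O.tau_one hK, mul_one,
    ← O.lft_mul hK hm1 hv hx, h1, O.lft_one]

theorem OExt.section_surj (g : GL chevF4.Idx K) (hg : g ∈ twistedF4 K (2 ^ m)) :
    ∃ h ∈ Subgroup.closure (secGens σ), im σ h = g := by
  have hm := isTheta hK
  suffices H : twistedF4 K (2 ^ m) ≤ (Subgroup.closure (secGens σ)).map (im σ) from
    Subgroup.mem_map.1 (H hg)
  have hu : ∀ v ∈ U1 K m, v ∈ (Subgroup.closure (secGens σ)).map (im σ) := fun v hv =>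
    ⟨lft σ v, Subgroup.subset_closure (Or.inl ⟨v, hv, rfl⟩), O.im_lft' hK hv⟩
  have hs : ∀ a, sO a ∈ (Subgroup.closure (secGens σ)).map (im σ) := fun a =>
    ⟨sL σ a, Subgroup.subset_closure (Or.inr (Or.inr ⟨a, rfl⟩)), O.im_sL a⟩
  rw [G1_eq, Subgroup.closure_le]
  have hA : ∀ t : K, yA m t ∈ (Subgroup.closure (secGens σ)).map (im σ) := fun t =>
    hu _ (fm_le_U1 _ (yA_mem_fm hm t))
  have hB : ∀ t u : K, yB m t u ∈ (Subgroup.closure (secGens σ)).map (im σ) := fun t u =>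
    hu _ (yB_U1 hK t u)
  rintro x (⟨t, rfl | rfl⟩ | ⟨t, u, rfl | rfl⟩)
  · exact hA t
  · exact mul_mem (mul_mem (hs 0) (hA t)) (hs 0)
  · exact hB t u
  · exact mul_mem (mul_mem (hs 1) (hB t u)) (hs 1)

theorem OExt.trivial_of_commutator {z : Γ} (hz : z ∈ σ.ker) (hzd : z ∈ commutator Γ) : z = 1 := by
  set H := Subgroup.closure (secGens σ) with hH
  have key : commutator Γ ≤ H := by
    rw [commutator_def, Subgroup.commutator_le]
    intro a _ b _
    obtain ⟨a', ha', ea⟩ := O.section_surj hK hm1 (im σ a) (σ a).2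
    obtain ⟨b', hb', eb⟩ := O.section_surj hK hm1 (im σ b) (σ b).2
    have h := br_congr O.cen ea.symm eb.symm
    show br a b ∈ H
    rw [h]
    exact mul_mem (mul_mem (mul_mem ha' hb') (inv_mem ha')) (inv_mem hb')
  exact (O.closure_inSec hK hm1 (key hzd)).eq_one hK O hm1
    (congrArg Subtype.val (MonoidHom.mem_ker.1 hz))

end ReeF4Mult

end Cfsg.Agent.Chev
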