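import Cfsg.Agent.Chev.ReeF4Mult.Torus

/-!
A central series of the unipotent subgroup of `²F₄` with one coordinate in each step.
-/

set_option autoImplicit false
set_option maxRecDepth 100000
set_option maxHeartbeats 1000000

namespace Cfsg.Agent.Chev

open Cfsg.Lie
open scoped MatrixGroups

universe u

namespace ReeF4Mult

open ReeF4 ReeF4Invol

local notation "hD" => facts_chevF4

/-- A single coordinate. -/
def sgl {K : Type u} [Zero K] (k : ℕ) (t : K) (i : ℕ) : K := if i = k then t else 0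

/-- The order of the coordinates along the series. -/
def ordS : List ℕ := [0, 1, 2, 3, 5, 7, 9, 4, 10, 11, 6, 8]

/-- The coordinates of a term of the series. -/
def suf (j : ℕ) : List ℕ := ordS.drop j

/-- The word of a commutator of two single coordinates. -/
def cw (i j : ℕ) : List (ℕ × CE) := pS [i] 0 ++ pS [j] 24 ++ pI [i] 0 ++ pI [j] 24

/-- The coordinates outside a set vanish. -/
def vanish (w : List (ℕ × CE)) (S : List ℕ) : Bool :=
  chkR (cp w) && (List.range 12).all fun k => S.contains k || (coefR (cp w) (rd.getD k 0)).isEmpty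

theorem suf_mul_ok : ∀ j ∈ List.range 13, vanish (pS (suf j) 0 ++ pS (suf j) 24) (suf j) = true := by
  decide +kernel

theorem comm_ok : ∀ k ∈ List.range 12, ∀ j ∈ List.range 12,
    vanish (cw k (ordS.getD j 0)) (suf (j + 1)) = true := by decide +kernel

theorem ordS_ok : ∀ j ∈ List.range 12, ordS.getD j 0 < 12 ∧ ordS.getD j 0 ∉ suf (j + 1) ∧
    suf j = ordS.getD j 0 :: suf (j + 1) := by decide +kernel

theorem suf_compound : ∀ j ∈ List.range 13, ∀ k ∈ [1, 3, 5, 7], k ∈ suf j → k + 1 ∈ suf j := by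
  decide +kernel

theorem suf_zero : ∀ k ∈ List.range 12, k ∈ suf 0 := by decide +kernel

theorem c_bc : (chkR (cp (cw 1 3)) && rdR (cw 1 3) [41] == [[[2, 31, 31]]]) = true := by
  decide +kernel

variable {K : Type u} [Field K] [CharP K 2] {m : ℕ}

theorem sgl_supp (k : ℕ) (s : K) : ∀ i < 12, i ∉ [k] → sgl k s i = 0 :=
  fun i _ hn => by simp [sgl, show i ≠ k by simpa using hn]

theorem yA0 : yA m (0 : K) = 1 := by simp [yA, W2, X, xG_zero]

theorem yB0 : yB m (0 : K) 0 = 1 := by simp [yB, W4, X, xG_zero]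

theorem P_sgl (t : K) :
    P m (sgl 0 t) = yA m t ∧ P m (sgl 1 t) = yB m t 0 ∧ P m (sgl 2 t) = yB m 0 t ∧
    P m (sgl 3 t) = nW [0] * yB m t 0 * (nW [0] : GL chevF4.Idx K)⁻¹ ∧
    P m (sgl 4 t) = nW [0] * yB m 0 t * (nW [0] : GL chevF4.Idx K)⁻¹ ∧
    P m (sgl 5 t) = nW [1, 0] * yB m t 0 * (nW [1, 0] : GL chevF4.Idx K)⁻¹ ∧
    P m (sgl 6 t) = nW [1, 0] * yB m 0 t * (nW [1, 0] : GL chevF4.Idx K)⁻¹ ∧
    P m (sgl 7 t) = nW [0, 1, 0] * yB m t 0 * (nW [0, 1, 0] : GL chevF4.Idx K)⁻¹ ∧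
    P m (sgl 8 t) = nW [0, 1, 0] * yB m 0 t * (nW [0, 1, 0] : GL chevF4.Idx K)⁻¹ ∧
    P m (sgl 9 t) = nW [1] * yA m t * (nW [1] : GL chevF4.Idx K)⁻¹ ∧
    P m (sgl 10 t) = nW [0, 1] * yA m t * (nW [0, 1] : GL chevF4.Idx K)⁻¹ ∧
    P m (sgl 11 t) = nW [1, 0, 1] * yA m t * (nW [1, 0, 1] : GL chevF4.Idx K)⁻¹ := by
  refine ⟨?_, ?_, ?_, ?_, ?_, ?_, ?_, ?_, ?_, ?_, ?_, ?_⟩ <;>
    (rw [pieces]; simp [sgl, yA0, yB0])

theorem yB_split' (t u : K) : yB m t u = yB m t 0 * yB m 0 u := by simp [yB, W4_mul]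

theorem P_sgl_zero (k : ℕ) : P m (sgl k (0 : K)) = 1 := by
  rw [← P_zero (K := K) (m := m)]
  exact congrArg _ (funext fun i => by simp [sgl])

theorem P_prod (v : ℕ → K) : P m v = P m (sgl 0 (v 0)) * P m (sgl 1 (v 1)) * P m (sgl 2 (v 2)) *
    P m (sgl 3 (v 3)) * P m (sgl 4 (v 4)) * P m (sgl 5 (v 5)) * P m (sgl 6 (v 6)) *
    P m (sgl 7 (v 7)) * P m (sgl 8 (v 8)) * P m (sgl 9 (v 9)) * P m (sgl 10 (v 10)) *
    P m (sgl 11 (v 11)) := by
  obtain ⟨a0, -, -, -, -, -, -, -, -, -, -, -⟩ := P_sgl (m := m) (v 0)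
  rw [a0, (P_sgl (m := m) (v 1)).2.1, (P_sgl (m := m) (v 2)).2.2.1,
    (P_sgl (m := m) (v 3)).2.2.2.1, (P_sgl (m := m) (v 4)).2.2.2.2.1,
    (P_sgl (m := m) (v 5)).2.2.2.2.2.1, (P_sgl (m := m) (v 6)).2.2.2.2.2.2.1,
    (P_sgl (m := m) (v 7)).2.2.2.2.2.2.2.1, (P_sgl (m := m) (v 8)).2.2.2.2.2.2.2.2.1,
    (P_sgl (m := m) (v 9)).2.2.2.2.2.2.2.2.2.1, (P_sgl (m := m) (v 10)).2.2.2.2.2.2.2.2.2.2.1,
    (P_sgl (m := m) (v 11)).2.2.2.2.2.2.2.2.2.2.2, pieces, yB_split' (v 1) (v 2),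
    yB_split' (v 3) (v 4), yB_split' (v 5) (v 6), yB_split' (v 7) (v 8)]
  simp only [mul_assoc, inv_mul_cancel_left]

/-- The partner coordinate. -/
def isOdd4 (k : ℕ) : Bool := [1, 3, 5, 7].contains k

theorem yAadd (t t' : K) : yA m t * yA m t' = yA m (t + t') := by
  rw [yA, yA, yA, W2_mul, map_add]

theorem sgl_add (hm : IsTheta K m) {k : ℕ} (hk : k < 12) (s t : K) :
    P m (sgl k s) * P m (sgl k t) = P m (sgl k (s + t)) *
      P m (sgl (k + 1) (bif isOdd4 k then th K m s * t else 0)) := by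
  have hb : ∀ s t : K, yB m s 0 * yB m t 0 = yB m (s + t) 0 * yB m 0 (th K m s * t) := fun s t => by
    rw [← yB_split']
    simp [yB, W4_mul, map_add]
    congr 1
    · linear_combination (-(th K m s * t)) * CharTwo.two_eq_zero (R := K)
    · rw [mul_pow, th_th hm]; ring
  have hb0 : ∀ s t : K, yB m 0 s * yB m 0 t = yB m 0 (s + t) := fun s t => by
    simp [yB, W4_mul, map_add, CharTwo.add_sq]
  have hcj : ∀ (g a b : GL chevF4.Idx K), g * a * g⁻¹ * (g * b * g⁻¹) = g * (a * b) * g⁻¹ :=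
    fun g a b => by group
  obtain ⟨a0, a1, a2, a3, a4, a5, a6, a7, a8, a9, a10, a11⟩ := P_sgl (m := m) s
  obtain ⟨b0, b1, b2, b3, b4, b5, b6, b7, b8, b9, b10, b11⟩ := P_sgl (m := m) t
  obtain ⟨c0, c1, c2, c3, c4, c5, c6, c7, c8, c9, c10, c11⟩ := P_sgl (m := m) (s + t)
  obtain ⟨-, -, d2, -, d4, -, d6, -, d8, -, -, -⟩ := P_sgl (m := m) (th K m s * t)
  interval_cases k <;> simp only [isOdd4, List.contains_cons, List.contains_nil, Bool.or_false,
    Nat.reduceBEq, Bool.or_self, Bool.or_true, Bool.true_or, cond_true, cond_false, Nat.reduceAdd,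
    P_sgl_zero, mul_one]
  · rw [a0, b0, c0, yAadd]
  · rw [a1, b1, c1, d2, hb]
  · rw [a2, b2, c2, hb0]
  · rw [a3, b3, c3, d4, hcj, hcj, hb]
  · rw [a4, b4, c4, hcj, hb0]
  · rw [a5, b5, c5, d6, hcj, hcj, hb]
  · rw [a6, b6, c6, hcj, hb0]
  · rw [a7, b7, c7, d8, hcj, hcj, hb]
  · rw [a8, b8, c8, hcj, hb0]
  · rw [a9, b9, c9, hcj, yAadd]
  · rw [a10, b10, c10, hcj, yAadd]
  · rw [a11, b11, c11, hcj, yAadd]

theorem coord_zero {v : ℕ → K} {w : List (ℕ × CE)} {ρ : ℕ → K} {S : List ℕ}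
    (hS : ∀ k ∈ [1, 3, 5, 7], k ∈ S → k + 1 ∈ S)
    (h : vanish w S = true) (e : wordC hD ρ w = P m v) : ∀ k < 12, k ∉ S → v k = 0 := by
  simp only [vanish, Bool.and_eq_true, List.all_eq_true, Bool.or_eq_true, List.contains_iff_mem,
    List.isEmpty_iff] at h
  have hz : ∀ k < 12, k ∉ S → coefP m v (rd.getD k 0) = 0 := fun k hk hn => by
    rw [← ReeF4Invol.coef_eq h.1 e _ (by interval_cases k <;> decide),
      (h.2 k (List.mem_range.2 hk)).resolve_left hn]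
    rfl
  obtain ⟨a0, a1, a2, a3, a4, a5, a6, a7, a8, a9, a10, a11⟩ := coefP_rd (m := m) v
  have hc : ∀ k, k = 1 ∨ k = 3 ∨ k = 5 ∨ k = 7 → k + 1 ∉ S → k ∉ S := fun k hk hn hmem =>
    hn (hS k (by simpa using hk) hmem)
  intro k hk hn
  have hk' := hz k hk hn
  interval_cases k
  · exact a0 ▸ hk'
  · exact a1 ▸ hk'
  · rw [show rd.getD 2 0 = 28 from rfl, a2] at hk'
    rwa [show v 1 = 0 from a1 ▸ hz 1 (by omega) (hc 1 (by simp) hn), map_zero, zero_mul, zero_add] at hk'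
  · exact a3 ▸ hk'
  · rw [show rd.getD 4 0 = 36 from rfl, a4] at hk'
    rwa [show v 3 = 0 from a3 ▸ hz 3 (by omega) (hc 3 (by simp) hn), map_zero, zero_mul, zero_add] at hk'
  · exact a5 ▸ hk'
  · rw [show rd.getD 6 0 = 40 from rfl, a6] at hk'
    rwa [show v 5 = 0 from a5 ▸ hz 5 (by omega) (hc 5 (by simp) hn), map_zero, zero_mul, zero_add] at hk'
  · exact a7 ▸ hk'
  · rw [show rd.getD 8 0 = 44 from rfl, a8] at hk'
    rwa [show v 7 = 0 from a7 ▸ hz 7 (by omega) (hc 7 (by simp) hn), map_zero, zero_mul, zero_add] at hk'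
  · exact a9 ▸ hk'
  · exact a10 ▸ hk'
  · exact a11 ▸ hk'

/-- A term of the series. -/
def N (m j : ℕ) : Subgroup (GL chevF4.Idx K) :=
  Subgroup.closure {x | ∃ k ∈ suf j, ∃ t : K, x = P m (sgl k t)}

theorem sgl_mem_N {j k : ℕ} (hk : k ∈ suf j) (t : K) : P m (sgl k t) ∈ N (K := K) m j :=
  Subgroup.subset_closure ⟨k, hk, t, rfl⟩

theorem N_le {j : ℕ} (hj : j < 12) : N (K := K) m (j + 1) ≤ N m j := by
  refine Subgroup.closure_mono ?_
  rintro x ⟨k, hk, t, rfl⟩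
  exact ⟨k, by rw [(ordS_ok j (List.mem_range.2 hj)).2.2]; exact List.mem_cons_of_mem _ hk, t, rfl⟩

theorem supp_mem_N {j : ℕ} {v : ℕ → K} (hv : ∀ i < 12, i ∉ suf j → v i = 0) :
    P m v ∈ N (K := K) m j := by
  have h : ∀ i < 12, P m (sgl i (v i)) ∈ N (K := K) m j := fun i hi => by
    by_cases hs : i ∈ suf j
    · exact sgl_mem_N hs _
    · rw [hv i hi hs, P_sgl_zero]; exact one_mem _
  rw [P_prod]
  exact mul_mem (mul_mem (mul_mem (mul_mem (mul_mem (mul_mem (mul_mem (mul_mem (mul_mem (mul_mem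
    (mul_mem (h 0 (by omega)) (h 1 (by omega))) (h 2 (by omega))) (h 3 (by omega)))
    (h 4 (by omega))) (h 5 (by omega))) (h 6 (by omega))) (h 7 (by omega))) (h 8 (by omega)))
    (h 9 (by omega))) (h 10 (by omega))) (h 11 (by omega))

variable [Fintype K] (hK : Fintype.card K = 2 ^ (2 * m + 1))
include hK

theorem mem_N_supp {j : ℕ} (hj : j < 13) {x : GL chevF4.Idx K} (hx : x ∈ N (K := K) m j) :
    ∃ v : ℕ → K, (∀ i < 12, i ∉ suf j → v i = 0) ∧ x = P m v := by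
  have hm := isTheta hK
  rw [← Subgroup.mem_toSubmonoid, N,
    Subgroup.closure_toSubmonoid_of_isOfFinOrder fun y _ => isOfFinOrder_of_finite y] at hx
  induction hx using Submonoid.closure_induction with
  | mem y hy =>
    obtain ⟨k, hk, t, rfl⟩ := hy
    exact ⟨sgl k t, fun i _ hn => by simp [sgl, show i ≠ k from fun e => hn (e ▸ hk)], rfl⟩
  | one => exact ⟨fun _ => 0, fun _ _ _ => rfl, P_zero.symm⟩
  | mul a b _ _ ha hb =>
    obtain ⟨v, hv, rfl⟩ := ha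
    obtain ⟨w, hw, rfl⟩ := hb
    obtain ⟨z, hz⟩ := exists_P hK (mul_mem (P_mem hm v) (P_mem hm w))
    refine ⟨z, coord_zero (m := m) (ρ := env m v w) (suf_compound j (List.mem_range.2 hj))
      (suf_mul_ok j (List.mem_range.2 hj)) ?_, hz⟩
    rw [wordC_append, wordC_pS _ hv, wordC_pS24 _ hw, hz]

theorem N_le_U1 (j : ℕ) : N (K := K) m j ≤ U1 K m := by
  refine (Subgroup.closure_le _).2 ?_
  rintro x ⟨k, -, t, rfl⟩
  exact P_mem (isTheta hK) _

theorem N_zero : N (K := K) m 0 = U1 K m := by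
  refine le_antisymm (N_le_U1 hK 0) fun x hx => ?_
  obtain ⟨v, rfl⟩ := exists_P hK hx
  exact supp_mem_N fun i hi hn => absurd (suf_zero i (List.mem_range.2 hi)) hn

theorem sgl_not_mem_N {j : ℕ} (hj : j < 12) {t : K}
    (h : P m (sgl (ordS.getD j 0) t) ∈ N (K := K) m (j + 1)) : t = 0 := by
  obtain ⟨v, hv, e⟩ := mem_N_supp hK (by omega) h
  obtain ⟨h1, h2, -⟩ := ordS_ok j (List.mem_range.2 hj)
  have := P_inj e _ h1
  rw [hv _ h1 h2] at this
  simpa [sgl] using this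

theorem comm_mem_N {k j : ℕ} (hk : k < 12) (hj : j < 12) (s t : K) :
    P m (sgl k s) * P m (sgl (ordS.getD j 0) t) * (P m (sgl k s))⁻¹ *
      (P m (sgl (ordS.getD j 0) t))⁻¹ ∈ N (K := K) m (j + 1) := by
  have hm := isTheta hK
  have h1 := P_mem hm (sgl k s)
  have h2 := P_mem hm (sgl (ordS.getD j 0) t)
  obtain ⟨z, hz⟩ := exists_P hK (mul_mem (mul_mem (mul_mem h1 h2) (inv_mem h1)) (inv_mem h2))
  rw [hz]
  refine supp_mem_N (coord_zero (m := m) (ρ := env m (sgl k s) (sgl (ordS.getD j 0) t))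
    (suf_compound (j + 1) (List.mem_range.2 (by omega)))
    (comm_ok k (List.mem_range.2 hk) j (List.mem_range.2 hj)) ?_)
  rw [cw, pI, pI, wordC_append, wordC_append, wordC_append, wordC_reverse, wordC_reverse,
    wordC_pS _ (sgl_supp k s), wordC_pS24 _ (sgl_supp _ t), hz]

/-- The coordinate `e` of a commutator of `b` and `c` takes every value. -/
theorem bc_value (s : K) : ∃ v : ℕ → K, v 7 = s ∧
    P m (sgl 1 s) * P m (sgl 3 (1 : K)) * (P m (sgl 1 s))⁻¹ * (P m (sgl 3 (1 : K)))⁻¹ = P m v := by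
  have hm := isTheta hK
  have h1 := P_mem hm (sgl 1 s)
  have h2 := P_mem hm (sgl 3 (1 : K))
  obtain ⟨z, hz⟩ := exists_P hK (mul_mem (mul_mem (mul_mem h1 h2) (inv_mem h1)) (inv_mem h2))
  refine ⟨z, ?_, hz⟩
  have h := c_bc
  simp only [Bool.and_eq_true, beq_iff_eq] at h
  have e : wordC hD (env m (sgl 1 s) (sgl 3 (1 : K))) (cw 1 3) = P m z := by
    rw [cw, pI, pI, wordC_append, wordC_append, wordC_append, wordC_reverse, wordC_reverse,
      wordC_pS _ (sgl_supp 1 s), wordC_pS24 _ (sgl_supp 3 (1 : K)), hz]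
  have h41 := ReeF4Invol.coef_eq h.1 e 41 (by decide)
  simp only [rdR, List.map_cons, List.map_nil, List.cons.injEq, and_true] at h
  rw [h.2, (coefP_rd (m := m) z).2.2.2.2.2.2.2.1] at h41
  simp [CE.pval, env, sgl] at h41
  exact h41.symm

theorem tor_conj_sgl (p : Kˣ × Kˣ) (k : ℕ) (t : K) :
    tor m p * P m (sgl k t) * (tor m p)⁻¹ = P m (sgl k ((chi m k p : K) * t)) := by
  rw [tor_conj_P hK]
  exact congrArg _ (funext fun i => by by_cases h : i = k <;> simp [sgl, h])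

theorem tor_conj_N {j : ℕ} (p : Kˣ × Kˣ) {x : GL chevF4.Idx K} (hx : x ∈ N (K := K) m j) :
    tor m p * x * (tor m p)⁻¹ ∈ N (K := K) m j := by
  induction hx using Subgroup.closure_induction with
  | mem y hy =>
    obtain ⟨k, hk, t, rfl⟩ := hy
    rw [tor_conj_sgl hK]
    exact sgl_mem_N hk _
  | one => simp
  | mul a b _ _ ha hb => rw [← _root_.conj_mul]; exact mul_mem ha hb
  | inv a _ ha =>
    rw [show tor m p * a⁻¹ * (tor m p)⁻¹ = (tor m p * a * (tor m p)⁻¹)⁻¹ by group]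
    exact inv_mem ha

end ReeF4Mult

end Cfsg.Agent.Chev
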