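import Cfsg.Agent.Chev.ReeF4Mult.Long

/-!
One step up the series, in a group where the elements below are central.
-/

set_option autoImplicit false
set_option maxRecDepth 100000
set_option maxHeartbeats 1000000

namespace Cfsg.Agent.Chev

open Cfsg.Lie

universe u v

namespace ReeF4Mult

open ReeF4

theorem dir_cases : ∀ i ∈ List.range 12, ∀ j ∈ List.range 12,
    dir.getD i 0 ≠ dir.getD j 0 ∨ i = j ∨ (i ∈ [1, 3, 5, 7] ∧ j = i + 1) ∨
      (j ∈ [1, 3, 5, 7] ∧ i = j + 1) := by decide +kernel

variable {K : Type u} [Field K] [CharP K 2] {m : ℕ}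

/-- The relations used in one step: `l k` are the coordinates, `τ` the torus, `o` the new one. -/
structure StepData (m : ℕ) (M : Type v) [Group M] (l : ℕ → K → M) (τ : Kˣ × Kˣ → M) (o : ℕ) :
    Prop where
  lt : o < 12
  ladd : ∀ k < 12, ∀ s t : K, ∃ z ∈ Subgroup.center M,
    l k s * l k t = l k (s + t) * l (k + 1) (bif isOdd4 k then th K m s * t else 0) * z
  lzero : ∀ k, l k 0 ∈ Subgroup.center M
  ljadd : ∀ s t : K, ∃ z ∈ Subgroup.center M, l o s * l o t = l o (s + t) * z
  τconj : ∀ p k s, ∃ z ∈ Subgroup.center M,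
    τ p * l k s * (τ p)⁻¹ = l k ((chi m k p : K) * s) * z
  brcen : ∀ k < 12, ∀ s t : K, br (l k s) (l o t) ∈ Subgroup.center M
  pair : ∀ k ∈ [1, 3, 5, 7], ∀ s t : K, br (l k s) (l (k + 1) t) = 1

variable [Fintype K] (hK : Fintype.card K = 2 ^ (2 * m + 1))
  {M : Type v} [Group M] {l : ℕ → K → M} {τ : Kˣ × Kˣ → M} {o : ℕ} (S : StepData m M l τ o)
include hK S

theorem StepData.commutes (hm1 : 1 ≤ m) : ∀ k < 12, ∀ s t, br (l k s) (l o t) = 1 := by
  have key : ∀ k < 12, (isOdd4 k = true → ∀ s t, br (l (k + 1) s) (l o t) = 1) →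
      ∀ s t, br (l k s) (l o t) = 1 := by
    intro k hk hpart
    rcases dir_cases k (List.mem_range.2 hk) o (List.mem_range.2 S.lt) with hd | hd | ⟨h1, h2⟩ | ⟨h1, h2⟩
    case inr.inr.inl => intro s t; rw [h2]; exact S.pair k h1 s t
    case inr.inr.inr =>
      intro s t
      rw [h2, br_eq_one]
      exact (br_eq_one.1 (S.pair o h1 t s)).symm
    all_goals
      refine pairing_zero hK hm1 hk S.lt (by first | exact Or.inl hd | exact Or.inr hd)
        (fun s t => br (l k s) (l o t)) (fun s s' t => ?_) (fun s t t' => ?_) (fun p s t => ?_)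
      · obtain ⟨z, hz, e⟩ := S.ladd k hk s s'
        have e1 : br (l (k + 1) (bif isOdd4 k then th K m s * s' else 0)) (l o t) = 1 := by
          cases h : isOdd4 k
          · exact (br_central (S.lzero _)).2
          · exact hpart h _ t
        have e2 := congrArg (fun y => br y (l o t)) e
        simp only [br_mul_left (S.brcen k hk s' t)] at e2
        rw [br_mul_left (by rw [(br_central hz).2]; exact one_mem _), (br_central hz).2, mul_one,
          br_mul_left (by rw [e1]; exact one_mem _), e1, mul_one] at e2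
        exact e2.symm
      · obtain ⟨z, hz, e⟩ := S.ljadd t t'
        have e2 := congrArg (fun y => br (l k s) y) e
        simp only [br_mul_right (S.brcen k hk s t')] at e2
        rw [br_mul_right (by rw [(br_central hz).1]; exact one_mem _), (br_central hz).1, mul_one]
          at e2
        exact e2.symm
      · obtain ⟨z, hz, e⟩ := S.τconj p k s
        obtain ⟨w, hw, e'⟩ := S.τconj p o t
        show br _ _ = br _ _
        rw [← br_congr_center (a := l k _) (b := l o _) hz hw, ← e, ← e', ← br_conj,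
          Subgroup.mem_center_iff.1 (S.brcen k hk s t) (τ p), mul_inv_cancel_right]
  intro k hk
  refine key k hk fun h => ?_
  have h' : k + 1 < 12 ∧ isOdd4 (k + 1) = false := by interval_cases k <;> simp_all [isOdd4]
  exact key (k + 1) h'.1 fun h'' => absurd h'' (by rw [h'.2]; decide)

theorem StepData.hom_add (hm1 : 1 ≤ m) (p : Kˣ × Kˣ) (t t' : K) :
    br (τ p) (l o (t + t')) = br (τ p) (l o t) * br (τ p) (l o t') := by
  have hl : ∀ s t, Commute (l o s) (l o t) := fun s t => br_eq_one.1 (S.commutes hK hm1 o S.lt s t)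
  have hD : ∀ s, Commute (br (τ p) (l o t')) (l o s) := fun s => by
    obtain ⟨z, hz, e⟩ := S.τconj p o t'
    rw [br, e]
    exact ((hl _ s).mul_left (show Commute z (l o s) from
      (Subgroup.mem_center_iff.1 hz (l o s)).symm)).mul_left (Commute.inv_left (hl t' s))
  obtain ⟨z, hz, e⟩ := S.ljadd t t'
  have e1 : br (τ p) (l o t * l o t') = br (τ p) (l o t) * br (τ p) (l o t') := by
    calc br (τ p) (l o t * l o t') = br (τ p) (l o t) * (l o t * br (τ p) (l o t') * (l o t)⁻¹) := by
          simp [br, mul_assoc]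
      _ = _ := by rw [← (hD t).eq, mul_inv_cancel_right]
  rw [← e1, e, br_mul_right (by rw [(br_central hz).1]; exact one_mem _), (br_central hz).1, mul_one]

end ReeF4Mult

end Cfsg.Agent.Chev
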