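import Cfsg.Agent.Chev.ReeF4Invol.Coords

/-!
The twelve torus characters of the coordinates of `²F₄`, and the vanishing of invariant pairings.
-/

set_option autoImplicit false
set_option maxRecDepth 100000
set_option maxHeartbeats 1000000

namespace Cfsg.Agent.Chev

open Cfsg.Lie
open scoped MatrixGroups

universe u v

namespace ReeF4Mult

open ReeF4 ReeF4Invol

/-- Exponents `((p₁, q₁), (p₂, q₂))` of the characters `a ^ p₁ θa ^ q₁ b ^ p₂ θb ^ q₂`. -/
def exps : List ((ℤ × ℤ) × (ℤ × ℤ)) :=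
  [((2, 0), (-1, 0)), ((-1, 0), (2, -2)), ((-1, -1), (1, 0)), ((1, 0), (1, -2)),
   ((1, 1), (0, -1)), ((1, -2), (-1, 2)), ((0, -1), (0, 1)), ((-1, 2), (0, 0)),
   ((0, 1), (0, 0)), ((0, -2), (1, 0)), ((0, 2), (1, -2)), ((0, 0), (-1, 2))]

/-- The direction of a coordinate. -/
def dir : List ℕ := [0, 1, 1, 2, 2, 3, 3, 4, 4, 5, 6, 7]

/-- The product of exponents. -/
def comp (L M : ℤ × ℤ) : ℤ × ℤ := (2 * L.1 * M.1 + L.2 * M.2, 2 * L.1 * M.2 + 2 * L.2 * M.1)

/-- The exponent measuring the independence of two characters. -/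
def det (i j : ℕ) : ℤ × ℤ :=
  comp (exps.getD j 0).1 (exps.getD i 0).2 - comp (exps.getD j 0).2 (exps.getD i 0).1

/-- The norm is a power of two. -/
def unitNorm (P : ℤ × ℤ) : Prop :=
  ∃ k ∈ List.range 12, (2 * P.1 ^ 2 - P.2 ^ 2).natAbs = 2 ^ k

instance (P : ℤ × ℤ) : Decidable (unitNorm P) := by unfold unitNorm; infer_instance

theorem pairs_ok : ∀ i ∈ List.range 12, ∀ j ∈ List.range 12,
    dir.getD i 0 ≠ dir.getD j 0 → unitNorm (det i j) := by decide +kernel

theorem onto_ok : ∀ i ∈ List.range 12,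
    unitNorm (exps.getD i 0).1 ∨ unitNorm (exps.getD i 0).2 := by decide +kernel

theorem cartan_ok : ∀ i ∈ List.range 12,
    chevF4.cartan 0 (rd.getD i 0) = (exps.getD i 0).1.2 ∧
    chevF4.cartan 1 (rd.getD i 0) = (exps.getD i 0).2.2 ∧
    chevF4.cartan 2 (rd.getD i 0) = (exps.getD i 0).2.1 ∧
    chevF4.cartan 3 (rd.getD i 0) = (exps.getD i 0).1.1 := by decide +kernel

variable {K : Type u} [Field K] [CharP K 2] {m : ℕ}

/-- The twist on units. -/
noncomputable def uT (m : ℕ) : Kˣ →* Kˣ := Units.map (th K m).toMonoidHom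

theorem uT_val (z : Kˣ) : (uT m z : K) = th K m (z : K) := rfl

theorem uT_uT (hm : IsTheta K m) (z : Kˣ) : uT m (uT m z) ^ 2 = z := units_theta hm z

/-- Evaluation of an exponent. -/
noncomputable def ev (m : ℕ) (P : ℤ × ℤ) (z : Kˣ) : Kˣ := z ^ P.1 * uT m z ^ P.2

theorem ev_mul (P : ℤ × ℤ) (z w : Kˣ) : ev m P (z * w) = ev m P z * ev m P w := by
  simp only [ev, map_mul, mul_zpow]
  exact mul_mul_mul_comm _ _ _ _

theorem ev_sub (P Q : ℤ × ℤ) (z : Kˣ) : ev m (P - Q) z = ev m P z * (ev m Q z)⁻¹ := by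
  simp only [ev, Prod.fst_sub, Prod.snd_sub, zpow_sub, mul_inv]
  exact mul_mul_mul_comm _ _ _ _

theorem ev_inv (P : ℤ × ℤ) (z : Kˣ) : ev m P z⁻¹ = (ev m P z)⁻¹ := by
  simp only [ev, map_inv, inv_zpow, mul_inv]

theorem ev_ev (hm : IsTheta K m) (L M : ℤ × ℤ) (z : Kˣ) :
    ev m L (ev m (2 * M.1, 2 * M.2) z) = ev m (comp L M) z := by
  have h : ∀ n : ℤ, uT m (uT m z) ^ (2 * n) = z ^ n := fun n => by
    rw [zpow_mul, show uT m (uT m z) ^ (2 : ℤ) = z by exact_mod_cast uT_uT hm z]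
  simp only [ev, comp, map_mul, map_zpow, mul_zpow, ← zpow_mul]
  rw [show 2 * M.2 * L.2 = 2 * (M.2 * L.2) by ring, h]
  simp only [zpow_add]
  rw [show 2 * L.1 * M.1 = 2 * M.1 * L.1 by ring, show 2 * L.1 * M.2 = 2 * M.2 * L.1 by ring,
    show 2 * L.2 * M.1 = 2 * M.1 * L.2 by ring, show L.2 * M.2 = M.2 * L.2 by ring]
  simp only [mul_comm, mul_left_comm, mul_assoc]

theorem ev_eq_one (hm : IsTheta K m) {P : ℤ × ℤ} (hP : unitNorm P) {z : Kˣ}
    (hz : ev m P z = 1) : z = 1 := by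
  obtain ⟨k, -, hk⟩ := hP
  have e1 : z ^ P.1 * uT m z ^ P.2 = 1 := hz
  have e2 : uT m z ^ (2 * P.1) * z ^ P.2 = 1 := by
    have h := congrArg (fun x => uT m x ^ 2) e1
    simp only [map_mul, map_zpow, map_one, one_pow, mul_pow] at h
    rwa [← zpow_natCast, ← zpow_mul, ← zpow_natCast (uT m (uT m z) ^ P.2), ← zpow_mul,
      mul_comm P.2, zpow_mul _ ((2 : ℕ) : ℤ), zpow_natCast (uT m (uT m z)), uT_uT hm,
      mul_comm P.1, Nat.cast_ofNat] at h
  have a1 : (z ^ P.1 * uT m z ^ P.2) ^ (2 * P.1) = 1 := by rw [e1, one_zpow]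
  have a2 : (uT m z ^ (2 * P.1) * z ^ P.2) ^ P.2 = 1 := by rw [e2, one_zpow]
  have e : z ^ (2 * P.1 ^ 2 - P.2 ^ 2) = 1 := by
    rw [mul_zpow, ← zpow_mul, ← zpow_mul] at a1 a2
    rw [zpow_sub, mul_inv_eq_one,
      eq_inv_of_mul_eq_one_left (show z ^ (2 * P.1 ^ 2) * uT m z ^ (P.2 * (2 * P.1)) = 1 by
        rw [← a1]; congr 2; ring),
      eq_inv_of_mul_eq_one_right (show uT m z ^ (P.2 * (2 * P.1)) * z ^ P.2 ^ 2 = 1 by
        rw [← a2, mul_comm P.2 (2 * P.1), pow_two])]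
  have e' : z ^ (2 ^ k) = 1 := by
    rw [← hk]
    rcases Int.natAbs_eq (2 * P.1 ^ 2 - P.2 ^ 2) with h | h <;> rw [h] at e
    · exact_mod_cast e
    · rw [zpow_neg, inv_eq_one] at e
      exact_mod_cast e
  refine Units.ext (iterateFrobenius_inj K 2 k ?_)
  simp only [iterateFrobenius_def, Units.val_one, one_pow]
  simpa using congrArg Units.val e'

/-- The character of a coordinate. -/
noncomputable def chi (m : ℕ) (i : ℕ) (p : Kˣ × Kˣ) : Kˣ :=
  ev m (exps.getD i 0).1 p.1 * ev m (exps.getD i 0).2 p.2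

theorem chiU_rd {i : ℕ} (hi : i < 12) (p : Kˣ × Kˣ) :
    chiU (tv (uT m p.1) (uT m p.2) p.2 p.1) (rd.getD i 0) = chi m i p := by
  have h := cartan_ok i (List.mem_range.2 hi)
  show ∏ j : Fin 4, tv (uT m p.1) (uT m p.2) p.2 p.1 j ^ chevF4.cartan j (rd.getD i 0) = _
  obtain ⟨h0, h1, h2, h3⟩ := h
  rw [Fin.prod_univ_four]
  erw [h0, h1, h2, h3]
  show uT m p.1 ^ _ * uT m p.2 ^ _ * p.2 ^ _ * p.1 ^ _ = _
  simp [chi, ev, mul_comm, mul_left_comm, mul_assoc]

theorem chi_compound (hm : IsTheta K m) (p : Kˣ × Kˣ) :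
    chi m 2 p = uT m (chi m 1 p) * chi m 1 p ∧ chi m 4 p = uT m (chi m 3 p) * chi m 3 p ∧
    chi m 6 p = uT m (chi m 5 p) * chi m 5 p ∧ chi m 8 p = uT m (chi m 7 p) * chi m 7 p := by
  have h1 : (th K m (th K m (p.1 : K))) ^ 2 = p.1 := th_th hm _
  have h2 : (th K m (th K m (p.2 : K))) ^ 2 = p.2 := th_th hm _
  have n1 : th K m (th K m (p.1 : K)) ≠ 0 := by simp
  have n2 : th K m (th K m (p.2 : K)) ≠ 0 := by simp
  have n3 : th K m (p.1 : K) ≠ 0 := by simp
  have n4 : th K m (p.2 : K) ≠ 0 := by simp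
  refine ⟨?_, ?_, ?_, ?_⟩ <;> ext <;>
    simp [chi, ev, exps, uT_val, zpow_ofNat, map_inv₀, map_mul, map_pow] <;>
    field_simp <;> simp only [h1, h2] <;> ring

theorem eq_of_add_eq_zero' {x y : K} (e : x + y = 0) : x = y := by
  linear_combination e - y * CharTwo.two_eq_zero (R := K)

theorem wordG_torus (c : Fin chevF4.rank → Kˣ) : ∀ l : List (ℕ × K),
    (∀ q ∈ l, q.1 < chevF4.nroots) →
    torusHom c * wordG facts_chevF4 l * (torusHom c : GL chevF4.Idx K)⁻¹ =
      wordG facts_chevF4 (l.map fun q => (q.1, (chiU c q.1 : K) * q.2))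
  | [], _ => by simp [wordG]
  | q :: l, h => by
    rw [ReeF4Invol.wordG_cons, List.map_cons, ReeF4Invol.wordG_cons,
      ← wordG_torus c l fun x hx => h x (List.mem_cons_of_mem _ hx), ← mul_assoc,
      torusHom_conj facts_chevF4 c (h q (List.mem_cons_self ..))]
    simp [mul_assoc]

variable [Fintype K] (hK : Fintype.card K = 2 ^ (2 * m + 1))
include hK

/-- The torus scales the coordinates. -/
theorem tor_conj_P (p : Kˣ × Kˣ) (v : ℕ → K) :
    tor m p * P m v * (tor m p)⁻¹ = P m (fun i => (chi m i p : K) * v i) := by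
  have hm := isTheta hK
  obtain ⟨z, hz⟩ := exists_P hK (g := tor m p * P m v * (tor m p)⁻¹) (by
    rw [U1_eq_fm]
    exact torus_conj_fm hm ⟨p, rfl⟩ (U1_eq_fm (K := K) (m := m) ▸ P_mem hm v))
  rw [hz]
  have hs : ∀ r ∈ ordL, coefP m z r =
      (chiU (tv (uT m p.1) (uT m p.2) p.2 p.1) r : K) * coefP m v r := by
    refine coef_inj ?_
    rw [← P_eq_coef, ← hz, P_eq_coef]
    show torusHom _ * _ * (torusHom _)⁻¹ = _
    rw [wordG_torus _ _ fun q hq => ?_, List.map_map]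
    · rfl
    · obtain ⟨r, hr, rfl⟩ := List.mem_map.1 hq
      exact (ordL_facts.2.2 r hr).2
  have hrd : ∀ i < 12, coefP m z (rd.getD i 0) = (chi m i p : K) * coefP m v (rd.getD i 0) := by
    intro i hi
    rw [hs _ (by interval_cases i <;> decide), chiU_rd hi]
  obtain ⟨a0, a1, a2, a3, a4, a5, a6, a7, a8, a9, a10, a11⟩ := coefP_rd (m := m) z
  obtain ⟨b0, b1, b2, b3, b4, b5, b6, b7, b8, b9, b10, b11⟩ := coefP_rd (m := m) v
  obtain ⟨c2, c4, c6, c8⟩ := chi_compound hm p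
  have f0 : z 0 = _ := a0 ▸ b0 ▸ hrd 0 (by omega)
  have f1 : z 1 = _ := a1 ▸ b1 ▸ hrd 1 (by omega)
  have f3 : z 3 = _ := a3 ▸ b3 ▸ hrd 3 (by omega)
  have f5 : z 5 = _ := a5 ▸ b5 ▸ hrd 5 (by omega)
  have f7 : z 7 = _ := a7 ▸ b7 ▸ hrd 7 (by omega)
  have f2 := a2 ▸ b2 ▸ hrd 2 (by omega)
  have f4 := a4 ▸ b4 ▸ hrd 4 (by omega)
  have f6 := a6 ▸ b6 ▸ hrd 6 (by omega)
  have f8 := a8 ▸ b8 ▸ hrd 8 (by omega)
  rw [f1, map_mul, c2, Units.val_mul, uT_val] at f2
  rw [f3, map_mul, c4, Units.val_mul, uT_val] at f4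
  rw [f5, map_mul, c6, Units.val_mul, uT_val] at f6
  rw [f7, map_mul, c8, Units.val_mul, uT_val] at f8
  rw [show P m z = P m (fun i => (chi m i p : K) * v i) from ?_]
  refine congrArg (fun l => wordG facts_chevF4 (ordL.zip l)) ?_
  suffices h : ∀ i < 12, z i = (chi m i p : K) * v i by simp [valsF, h]
  intro i hi
  interval_cases i
  · exact f0
  · exact f1
  · rw [c2, Units.val_mul, uT_val]; linear_combination f2
  · exact f3
  · rw [c4, Units.val_mul, uT_val]; linear_combination f4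
  · exact f5
  · rw [c6, Units.val_mul, uT_val]; linear_combination f6
  · exact f7
  · rw [c8, Units.val_mul, uT_val]; linear_combination f8
  · exact a9 ▸ b9 ▸ hrd 9 (by omega)
  · exact a10 ▸ b10 ▸ hrd 10 (by omega)
  · exact a11 ▸ b11 ▸ hrd 11 (by omega)

omit [CharP K 2] in
theorem exists_unit_ne_one (hm1 : 1 ≤ m) : ∃ z : Kˣ, z ≠ 1 ∧ (z : K) ^ 2 + z + 1 ≠ 0 := by
  classical
  have h8 : 8 ≤ Fintype.card K := by
    rw [hK]; exact le_trans (by norm_num) (Nat.pow_le_pow_right two_pos (show 3 ≤ 2 * m + 1 by omega))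
  let f : Polynomial K := Polynomial.X ^ 2 + Polynomial.X + 1
  have hf : f.natDegree ≤ 2 := by
    show (Polynomial.X ^ 2 + Polynomial.X + 1 : Polynomial K).natDegree ≤ 2
    compute_degree
  have h : (({0, 1} : Finset K) ∪ f.roots.toFinset).card < (Finset.univ : Finset K).card := by
    rw [Finset.card_univ]
    have := (Multiset.toFinset_card_le f.roots).trans (f.card_roots'.trans hf)
    have := Finset.card_union_le ({0, 1} : Finset K) f.roots.toFinset
    have : ({0, 1} : Finset K).card ≤ 2 := Finset.card_le_two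
    omega
  obtain ⟨x, -, hx⟩ := Finset.exists_mem_notMem_of_card_lt_card h
  simp only [Finset.mem_union, Finset.mem_insert, Finset.mem_singleton, Multiset.mem_toFinset,
    not_or] at hx
  refine ⟨Units.mk0 x hx.1.1, fun e => hx.1.2 (congrArg Units.val e), fun e => hx.2 ?_⟩
  have hf0 : f ≠ 0 := fun e0 => by simpa [f] using congrArg (fun g : Polynomial K => g.coeff 0) e0
  rw [Polynomial.mem_roots hf0]
  simpa [f, Polynomial.IsRoot] using e

/-- Independent characters can be separated. -/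
theorem exists_separating (hm1 : 1 ≤ m) {i j : ℕ} (hi : i < 12) (hj : j < 12)
    (hd : dir.getD i 0 ≠ dir.getD j 0) :
    ∃ p : Kˣ × Kˣ, chi (K := K) m i p = 1 ∧ chi (K := K) m j p ≠ 1 := by
  have hm := isTheta hK
  obtain ⟨z, hz, -⟩ := exists_unit_ne_one hK hm1
  set A := (exps.getD i 0).1
  set B := (exps.getD i 0).2
  refine ⟨(ev m (2 * B.1, 2 * B.2) z, (ev m (2 * A.1, 2 * A.2) z)⁻¹), ?_, fun e => hz ?_⟩
  · rw [chi, ev_inv, ev_ev hm, ev_ev hm, mul_inv_eq_one]
    simp only [comp]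
    congr 1
    exact Prod.ext (by ring) (by ring)
  · refine ev_eq_one hm (pairs_ok i (List.mem_range.2 hi) j (List.mem_range.2 hj) hd) ?_
    rw [det, ev_sub, ← e, chi, ev_inv, ev_ev hm, ev_ev hm]

/-- Every nonzero scalar is a value of each character. -/
theorem chi_surjective {i : ℕ} (hi : i < 12) : Function.Surjective (chi (K := K) m i) := by
  classical
  have hm := isTheta hK
  intro c
  have key : ∀ {P : ℤ × ℤ}, unitNorm P → ∃ z : Kˣ, ev m P z = c := fun {P} hP =>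
    (Finite.injective_iff_surjective.1 fun x y e => by
      refine mul_inv_eq_one.1 (ev_eq_one hm hP ?_)
      rw [ev_mul, ev_inv, e, mul_inv_cancel]) c
  rcases onto_ok i (List.mem_range.2 hi) with h | h
  · obtain ⟨z, rfl⟩ := key h
    exact ⟨(z, 1), by simp [chi, ev]⟩
  · obtain ⟨z, rfl⟩ := key h
    exact ⟨(1, z), by simp [chi, ev]⟩

/-- An invariant biadditive pairing of two coordinates vanishes unless they share a compound
coordinate. -/
theorem pairing_zero (hm1 : 1 ≤ m) {M : Type v} [Group M] {i j : ℕ} (hi : i < 12) (hj : j < 12)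
    (hd : dir.getD i 0 ≠ dir.getD j 0 ∨ i = j) (B : K → K → M)
    (hl : ∀ a a' b, B (a + a') b = B a b * B a' b) (hr : ∀ a b b', B a (b + b') = B a b * B a b')
    (hinv : ∀ p : Kˣ × Kˣ, ∀ a b, B ((chi m i p : K) * a) ((chi m j p : K) * b) = B a b) :
    ∀ a b, B a b = 1 := by
  have hr0 : ∀ a, B a 0 = 1 := fun a => by
    have := hr a 0 0
    rw [add_zero] at this
    exact left_eq_mul.mp this
  have hl0 : ∀ b, B 0 b = 1 := fun b => by
    have := hl 0 0 b
    rw [add_zero] at this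
    exact left_eq_mul.mp this
  rcases hd with hd | rfl
  · obtain ⟨p, hp1, hp2⟩ := exists_separating hK hm1 hi hj hd
    intro a b
    have hc : (chi m j p : K) + 1 ≠ 0 := fun e => hp2 (Units.ext (by
      rw [Units.val_one]; exact eq_of_add_eq_zero' e))
    have h := hinv p a (b / ((chi m j p : K) + 1))
    rw [hp1, Units.val_one, one_mul] at h
    have h2 := hr a ((chi m j p : K) * (b / ((chi m j p : K) + 1))) (b / ((chi m j p : K) + 1))
    rw [h, ← add_one_mul, mul_div_cancel₀ _ hc] at h2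
    have h3 := hr a (b / ((chi m j p : K) + 1)) (b / ((chi m j p : K) + 1))
    rw [CharTwo.add_self_eq_zero, hr0] at h3
    rw [h2, ← h3]
  · have hg : ∀ a b : K, b ≠ 0 → B a b = B (a * b⁻¹) 1 := fun a b hb => by
      obtain ⟨p, hp⟩ := chi_surjective (m := m) hK hi (Units.mk0 b hb)
      have h := hinv p (a * b⁻¹) 1
      rw [hp, Units.val_mk0, mul_one, mul_comm a, mul_inv_cancel_left₀ hb] at h
      rw [mul_comm a]
      exact h
    obtain ⟨z, hz1, hz2⟩ := exists_unit_ne_one hK hm1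
    have hz0 : (z : K) ≠ 0 := z.ne_zero
    have hz' : 1 + (z : K) ≠ 0 := fun e => hz1 (Units.ext (by
      rw [Units.val_one]; exact (eq_of_add_eq_zero' e).symm))
    set d := (1 + (z : K))⁻¹ + (1 + (z : K)⁻¹) with hd'
    have hd0 : d ≠ 0 := by
      intro e
      rw [hd'] at e
      field_simp at e
      apply hz2
      linear_combination e - (z : K) * CharTwo.two_eq_zero (R := K)
    have key : ∀ a, B (a * d) 1 = 1 := fun a => by
      rw [hd', mul_add, hl, ← hg a _ hz', hr, mul_add, mul_one, hg a _ hz0, ← hl, ← hl,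
        CharTwo.add_self_eq_zero, hl0]
    intro a b
    rcases eq_or_ne b 0 with rfl | hb
    · exact hr0 a
    · rw [hg a b hb, ← key (a * b⁻¹ / d), div_mul_cancel₀ _ hd0]
end ReeF4Mult

end Cfsg.Agent.Chev
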