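import Cfsg.Agent.Chev.ReeF4Mult.Step
import Mathlib.GroupTheory.Transfer

/-!
The unipotent subgroup of `²F₄(q)`, `q > 2`, lifts into every central extension; hence the kernel
of a stem extension has odd order.
-/

set_option autoImplicit false
set_option maxRecDepth 100000
set_option maxHeartbeats 1000000

namespace Cfsg.Agent.Chev

open Cfsg.Lie
open scoped MatrixGroups

universe u v

namespace ReeF4Mult

open ReeF4 ReeF4Invol

variable {K : Type u} [Field K] [CharP K 2] {m : ℕ}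
  {Γ : Type v} [Group Γ] {σ : Γ →* ↥(twistedF4 K (2 ^ m))}

/-- A lift of a term of the series. -/
structure Lifted (σ : Γ →* ↥(twistedF4 K (2 ^ m))) (j : ℕ) (V : Subgroup Γ) : Prop where
  mem : ∀ v ∈ V, im σ v ∈ N (K := K) m j
  surj : ∀ n ∈ N (K := K) m j, ∃ v ∈ V, im σ v = n
  triv : ∀ v ∈ V, im σ v = 1 → v = 1
  conj : ∀ x, im σ x ∈ U1 K m ∨ im σ x ∈ T1 K m → ∀ v ∈ V, x * v * x⁻¹ ∈ V

theorem Lifted.normalizer {j : ℕ} {V : Subgroup Γ} (hV : Lifted σ j V) {x : Γ}
    (hx : im σ x ∈ U1 K m ∨ im σ x ∈ T1 K m) : x ∈ Subgroup.normalizer (V : Set Γ) :=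
  Subgroup.mem_normalizer_iff.2 fun w => ⟨hV.conj x hx w, fun h => by
    have := hV.conj x⁻¹ (hx.imp (fun h => by rw [map_inv]; exact inv_mem h)
      (fun h => by rw [map_inv]; exact inv_mem h)) _ h
    simpa [mul_assoc] using this⟩

theorem swap_eq {G : Type v} [Group G] {v w b : G} (hw : w ∈ Subgroup.center G) :
    (b * (v * w))⁻¹ * (v * w * b) = v⁻¹ * (b⁻¹ * v * b) := by
  have h := Subgroup.mem_center_iff.1 hw
  calc (b * (v * w))⁻¹ * (v * w * b) = w⁻¹ * (v⁻¹ * b⁻¹ * v) * (w * b) := by group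
    _ = w⁻¹ * (v⁻¹ * (b⁻¹ * v * b) * w) := by rw [← h b]; group
    _ = _ := by rw [h, inv_mul_cancel_left]

theorem central_mk (hc : σ.ker ≤ Subgroup.center Γ) {j : ℕ} {V : Subgroup Γ} (hV : Lifted σ j V)
    (a : ↥(Subgroup.normalizer (V : Set Γ))) (ha : im σ (a : Γ) ∈ N (K := K) m j) :
    QuotientGroup.mk' (V.subgroupOf (Subgroup.normalizer (V : Set Γ))) a ∈ Subgroup.center _ := by
  obtain ⟨v, hv, ev⟩ := hV.surj _ ha
  have hz : v⁻¹ * (a : Γ) ∈ Subgroup.center Γ :=
    im_one hc (by rw [map_mul, map_inv, ev, inv_mul_cancel])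
  refine Subgroup.mem_center_iff.2 fun y => ?_
  obtain ⟨b, rfl⟩ := QuotientGroup.mk'_surjective _ y
  rw [← map_mul, ← map_mul]
  refine QuotientGroup.eq.2 ?_
  rw [Subgroup.mem_subgroupOf]
  push_cast
  have hvb : (b : Γ)⁻¹ * v * (b : Γ) ∈ V := by
    simpa using (Subgroup.mem_normalizer_iff.1 (inv_mem b.2) v).1 hv
  obtain ⟨w, hw, ea⟩ : ∃ w ∈ Subgroup.center Γ, (a : Γ) = v * w :=
    ⟨_, hz, (mul_inv_cancel_left _ _).symm⟩
  rw [ea, swap_eq hw]
  exact mul_mem (inv_mem hv) hvb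

variable [Fintype K] (hK : Fintype.card K = 2 ^ (2 * m + 1))
  (hσ : Function.Surjective σ) (hc : σ.ker ≤ Subgroup.center Γ)
include hσ hc hK

theorem step (hm1 : 1 ≤ m) {j : ℕ} (hj : j < 12) {V : Subgroup Γ}
    (hV : Lifted σ (j + 1) V) : ∃ V', Lifted σ j V' := by
  classical
  have hm := isTheta hK
  obtain ⟨hoj, hnj, hsuf⟩ := ordS_ok j (List.mem_range.2 hj)
  set o := ordS.getD j 0 with ho
  set A := Subgroup.normalizer (V : Set Γ) with hA
  let q : ↥A →* ↥A ⧸ V.subgroupOf A := QuotientGroup.mk' _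
  have qcen : ∀ a : ↥A, im σ (a : Γ) ∈ N (K := K) m (j + 1) → q a ∈ Subgroup.center _ :=
    central_mk hc hV
  have hXU : ∀ k (s : K), im σ (sec σ (P m (sgl k s))) ∈ U1 K m := fun k s => by
    rw [im_X hσ hK]; exact P_mem hm _
  let X : ℕ → K → ↥A := fun k s => ⟨sec σ (P m (sgl k s)), hV.normalizer (Or.inl (hXU k s))⟩
  let Kp : Kˣ × Kˣ → ↥A := fun p =>
    ⟨sec σ (tor m p), hV.normalizer (Or.inr (by rw [im_κ hσ hK]; exact ⟨p, rfl⟩))⟩
  let f : ↥A →* GL chevF4.Idx K := (im σ).comp A.subtype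
  have fX : ∀ k s, f (X k s) = P m (sgl k s) := fun k s => im_X hσ hK k s
  have fK : ∀ p, f (Kp p) = tor m p := fun p => im_κ hσ hK p
  have heq : ∀ a b : ↥A, f a = f b → ∃ z ∈ Subgroup.center (↥A ⧸ V.subgroupOf A), q b = q a * z :=
    fun a b e => ⟨q (a⁻¹ * b), qcen _ (by
      show f (a⁻¹ * b) ∈ N (K := K) m (j + 1)
      rw [map_mul, map_inv, e, inv_mul_cancel]; exact one_mem _),
      by rw [← map_mul, mul_inv_cancel_left]⟩
  have hpart : ∀ e : K, (bif isOdd4 o then e else 0) = 0 ∨ o + 1 ∈ suf (j + 1) := fun e => by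
    cases h : isOdd4 o
    · exact Or.inl rfl
    · have h' : o ∈ [1, 3, 5, 7] := by simpa [isOdd4] using h
      have := suf_compound j (List.mem_range.2 (by omega)) o h' (by rw [hsuf]; simp)
      rw [hsuf, List.mem_cons] at this
      exact Or.inr (this.resolve_left (by omega))
  have hpartN : ∀ e : K, P m (sgl (o + 1) (bif isOdd4 o then e else 0)) ∈ N (K := K) m (j + 1) :=
    fun e => by
    rcases hpart e with h | h
    · rw [h, P_sgl_zero]; exact one_mem _
    · exact sgl_mem_N h _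
  let l : ℕ → K → ↥A ⧸ V.subgroupOf A := fun k s => q (X k s)
  let τ : Kˣ × Kˣ → ↥A ⧸ V.subgroupOf A := fun p => q (Kp p)
  have S : StepData m _ l τ o := by
    refine ⟨hoj, fun k hk s t => ?_, fun k => qcen _ ?_, fun s t => ?_, fun p k s => ?_,
      fun k hk s t => ?_, fun k hk s t => ?_⟩
    · obtain ⟨z, hz, e⟩ := heq (X k (s + t) * X (k + 1) (bif isOdd4 k then th K m s * t else 0))
        (X k s * X k t) (by simp only [map_mul, fX]; rw [sgl_add hm hk])
      rw [map_mul, map_mul] at e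
      exact ⟨z, hz, e⟩
    · show f (X k 0) ∈ _
      rw [fX, P_sgl_zero]; exact one_mem _
    · obtain ⟨z, hz, e⟩ := heq (X o (s + t) * X (o + 1) (bif isOdd4 o then th K m s * t else 0))
        (X o s * X o t) (by simp only [map_mul, fX]; rw [sgl_add hm hoj])
      rw [map_mul, map_mul, mul_assoc] at e
      exact ⟨_, mul_mem (qcen _ (show f (X (o + 1) (bif isOdd4 o then th K m s * t else 0)) ∈ N (K := K) m (j + 1) by
        rw [fX]; exact hpartN _)) hz, e⟩
    · obtain ⟨z, hz, e⟩ := heq (X k ((chi m k p : K) * s)) (Kp p * X k s * (Kp p)⁻¹)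
        (by simp only [map_mul, map_inv, fX, fK]; rw [tor_conj_sgl hK])
      rw [map_mul, map_mul, map_inv] at e
      exact ⟨z, hz, e⟩
    · rw [show br (l k s) (l o t) = q (br (X k s) (X o t)) from (map_br q _ _).symm]
      refine qcen _ ?_
      show f (br (X k s) (X o t)) ∈ _
      rw [map_br, br, fX, fX]
      exact comm_mem_N hK hk hj s t
    · rw [show br (l k s) (l (k + 1) t) = q (br (X k s) (X (k + 1) t)) from (map_br q _ _).symm,
        show br (X k s) (X (k + 1) t) = 1 from Subtype.ext (by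
          rw [← Subgroup.coe_subtype, map_br, map_one]
          exact pair_comm hσ hc hK hm1 hk s t), map_one]
  have hδ := S.commutes hK hm1
  have ocen : ∀ (a : ↥A), f a ∈ U1 K m → ∀ t, Commute (q a) (l o t) := by
    intro a ha t
    obtain ⟨v, hv⟩ := exists_P hK ha
    obtain ⟨z, hz, e⟩ := heq (X 0 (v 0) * X 1 (v 1) * X 2 (v 2) * X 3 (v 3) * X 4 (v 4) *
      X 5 (v 5) * X 6 (v 6) * X 7 (v 7) * X 8 (v 8) * X 9 (v 9) * X 10 (v 10) * X 11 (v 11)) a (by
        simp only [map_mul, fX]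
        rw [hv, ← P_prod v])
    have h : ∀ k < 12, Commute (q (X k (v k))) (l o t) := fun k hk => br_eq_one.1 (hδ k hk _ t)
    rw [e]
    simp only [map_mul]
    refine Commute.mul_left ?_ (Subgroup.mem_center_iff.1 hz (l o t)).symm
    exact ((((((((((((h 0 (by omega)).mul_left (h 1 (by omega))).mul_left (h 2 (by omega))).mul_left
      (h 3 (by omega))).mul_left (h 4 (by omega))).mul_left (h 5 (by omega))).mul_left
      (h 6 (by omega))).mul_left (h 7 (by omega))).mul_left (h 8 (by omega))).mul_left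
      (h 9 (by omega))).mul_left (h 10 (by omega))).mul_left (h 11 (by omega)))
  -- the complement
  obtain ⟨c, hc1, -⟩ := exists_unit_ne_one hK hm1
  obtain ⟨p, hp⟩ := chi_surjective (m := m) hK hoj c
  have hc0 : (c : K) + 1 ≠ 0 := fun e => hc1 (Units.ext (eq_of_add_eq_zero' e))
  let D : Multiplicative K →* ↥A ⧸ V.subgroupOf A :=
    MonoidHom.mk' (fun t => br (τ p) (l o (Multiplicative.toAdd t)))
      fun a b => S.hom_add hK hm1 p _ _
  let w : K → ↥A := fun t => br (Kp p) (X o t)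
  have qw : ∀ t, q (w t) = D (Multiplicative.ofAdd t) := fun t => map_br q _ _
  have wU : ∀ t, f (w t) ∈ U1 K m := fun t => by
    rw [map_br, br, fX, fK, tor_conj_sgl hK]
    exact mul_mem (P_mem hm _) (inv_mem (P_mem hm _))
  -- the image of `w t` up to the next term
  have wim : ∀ t : K, ∃ n ∈ N (K := K) m (j + 1),
      P m (sgl o (((c : K) + 1) * t)) = f (w t) * n := by
    intro t
    refine ⟨P m (sgl o t) * P m (sgl (o + 1) (bif isOdd4 o then
      th K m (((c : K) + 1) * t) * t else 0)) * (P m (sgl o t))⁻¹, ?_, ?_⟩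
    · obtain ⟨v, hv, ev⟩ := hV.surj _ (hpartN (th K m (((c : K) + 1) * t) * t))
      rw [← ev, ← im_X hσ hK o t, ← map_inv, ← map_mul, ← map_mul]
      exact hV.mem _ (hV.conj _ (Or.inl (hXU _ _)) v hv)
    · have hadd := sgl_add hm hoj (((c : K) + 1) * t) t
      rw [show ((c : K) + 1) * t + t = (c : K) * t by
        linear_combination t * CharTwo.two_eq_zero (R := K)] at hadd
      rw [map_br, br, fX, fK, tor_conj_sgl hK, hp]
      calc P m (sgl o (((c : K) + 1) * t)) =
          P m (sgl o (((c : K) + 1) * t)) * P m (sgl o t) * (P m (sgl o t))⁻¹ := by group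
        _ = _ := by rw [hadd]; group
  refine ⟨(D.range.comap q).map A.subtype, ⟨?_, ?_, ?_, ?_⟩⟩
  · rintro _ ⟨a, ⟨t, ht⟩, rfl⟩
    have hab : (w (Multiplicative.toAdd t))⁻¹ * a ∈ V.subgroupOf A :=
      QuotientGroup.eq.1 ((qw (Multiplicative.toAdd t)).trans ht)
    have h1 : f ((w (Multiplicative.toAdd t))⁻¹ * a) ∈ N (K := K) m j :=
      N_le hj (hV.mem _ hab)
    obtain ⟨n, hn, en⟩ := wim (Multiplicative.toAdd t)
    have h2 : f (w (Multiplicative.toAdd t)) ∈ N (K := K) m j := by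
      rw [show f (w (Multiplicative.toAdd t)) = P m (sgl o (((c : K) + 1) * Multiplicative.toAdd t)) * n⁻¹
        by rw [en, mul_inv_cancel_right]]
      exact mul_mem (sgl_mem_N (by rw [hsuf]; simp) _) (inv_mem (N_le hj hn))
    have h3 := mul_mem h2 h1
    rwa [map_mul, map_inv, mul_inv_cancel_left] at h3
  · set V' := ((D.range.comap q).map A.subtype) with hV'
    have hVV' : V ≤ V' := fun v hv => by
      refine ⟨⟨v, Subgroup.le_normalizer hv⟩, ⟨1, ?_⟩, rfl⟩
      rw [map_one]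
      exact ((QuotientGroup.eq_one_iff (N := V.subgroupOf A) (⟨v, Subgroup.le_normalizer hv⟩ : ↥A)).2 hv).symm
    intro n hn
    suffices h : N (K := K) m j ≤ V'.map (im σ) by
      obtain ⟨v, hv, e⟩ := h hn
      exact ⟨v, hv, e⟩
    refine (Subgroup.closure_le _).2 ?_
    rintro x ⟨k, hk, t, rfl⟩
    have hnext : N (K := K) m (j + 1) ≤ V'.map (im σ) := fun y hy => by
      obtain ⟨v, hv, e⟩ := hV.surj y hy
      exact ⟨v, hVV' hv, e⟩
    rw [hsuf, List.mem_cons] at hk
    rcases hk with rfl | hk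
    · obtain ⟨n', hn', en⟩ := wim (t / ((c : K) + 1))
      rw [mul_div_cancel₀ _ hc0] at en
      rw [SetLike.mem_coe, en]
      exact mul_mem ⟨_, ⟨w _, ⟨_, (qw _).symm⟩, rfl⟩, rfl⟩ (hnext hn')
    · exact hnext (sgl_mem_N hk t)
  · rintro _ ⟨a, ⟨t, ht⟩, rfl⟩ ha1
    have hab : (w (Multiplicative.toAdd t))⁻¹ * a ∈ V.subgroupOf A :=
      QuotientGroup.eq.1 ((qw (Multiplicative.toAdd t)).trans ht)
    have h1 : f ((w (Multiplicative.toAdd t))⁻¹ * a) ∈ N (K := K) m (j + 1) := hV.mem _ hab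
    rw [map_mul, map_inv, show f a = 1 from ha1, mul_one, inv_mem_iff] at h1
    obtain ⟨n, hn, en⟩ := wim (Multiplicative.toAdd t)
    have ht0 : ((c : K) + 1) * Multiplicative.toAdd t = 0 :=
      sgl_not_mem_N hK hj (by rw [← ho, en]; exact mul_mem h1 hn)
    have : q a = 1 := by
      rw [← ht, show t = 1 from Multiplicative.toAdd.injective ((mul_eq_zero.1 ht0).resolve_left hc0),
        map_one]
    exact hV.triv _ ((QuotientGroup.eq_one_iff a).1 this) ha1
  · rintro x hx _ ⟨a, ⟨t, ht⟩, rfl⟩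
    set x' : ↥A := ⟨x, hV.normalizer hx⟩ with hx'
    refine ⟨x' * a * x'⁻¹, ?_, rfl⟩
    show q _ ∈ D.range
    rw [map_mul, map_mul, map_inv, ← ht]
    rcases hx with hx | hx
    · have hcom : Commute (q x') (D t) := by
        obtain ⟨z, hz, e⟩ := S.τconj p o (Multiplicative.toAdd t)
        show Commute _ (br _ _)
        rw [br, e]
        exact ((ocen _ hx _).mul_right (Subgroup.mem_center_iff.1 hz _)).mul_right
          (Commute.inv_right (ocen _ hx _))
      rw [hcom.eq, mul_inv_cancel_right]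
      exact ⟨t, rfl⟩
    · obtain ⟨p', hp'⟩ := hx
      obtain ⟨z1, hz1, e1⟩ := heq (Kp p') x' (by rw [fK]; exact hp')
      obtain ⟨z2, hz2, e2⟩ := heq (Kp p) (Kp p' * Kp p * (Kp p')⁻¹) (by
        simp only [map_mul, map_inv, fK]
        rw [← map_mul, mul_comm p', map_mul, mul_inv_cancel_right])
      rw [map_mul, map_mul, map_inv] at e2
      obtain ⟨z3, hz3, e3⟩ := S.τconj p' o (Multiplicative.toAdd t)
      refine ⟨Multiplicative.ofAdd ((chi m o p' : K) * Multiplicative.toAdd t), ?_⟩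
      show br (τ p) (l o _) = q x' * br (τ p) (l o (Multiplicative.toAdd t)) * (q x')⁻¹
      rw [e1, mul_assoc (q (Kp p')) z1, ← Subgroup.mem_center_iff.1 hz1 (br _ _),
        show ∀ g y : ↥A ⧸ V.subgroupOf A, g * (y * z1) * (g * z1)⁻¹ = g * y * g⁻¹ from
          fun g y => by group,
        br_conj, e3, show τ p' * τ p * (τ p')⁻¹ = τ p * z2 from e2, br_congr_center hz2 hz3]
      rfl

theorem exists_lifted (hm1 : 1 ≤ m) : ∃ V, Lifted σ 0 V := by
  suffices h : ∀ d, d ≤ 12 → ∃ V, Lifted σ (12 - d) V by simpa using h 12 le_rfl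
  intro d
  induction d with
  | zero =>
    intro _
    have hbot : N (K := K) m 12 = ⊥ := by
      rw [N, eq_bot_iff, Subgroup.closure_le]
      rintro y ⟨k, hk, -⟩
      simp [suf, ordS] at hk
    refine ⟨⊥, ⟨fun v hv => ?_, fun n hn => ?_, fun v hv _ => hv, fun x _ v hv => ?_⟩⟩
    · rw [Subgroup.mem_bot.1 hv, map_one]; exact one_mem _
    · rw [show 12 - 0 = 12 from rfl, hbot, Subgroup.mem_bot] at hn
      exact ⟨1, one_mem _, by rw [map_one, hn]⟩
    · rw [Subgroup.mem_bot.1 hv]; simp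
  | succ d ih =>
    intro hd
    obtain ⟨V, hV⟩ := ih (by omega)
    exact step hK hσ hc hm1 (by omega) (j := 12 - (d + 1))
      (by rwa [show 12 - (d + 1) + 1 = 12 - d by omega])

/-- The kernel elements in the derived group have odd order. -/
theorem two_part [Finite Γ] (hm1 : 1 ≤ m) {z : Γ} (hz : z ∈ σ.ker) (hzd : z ∈ commutator Γ) :
    z ^ ((U1 K m).subgroupOf (twistedF4 K (2 ^ m))).index = 1 := by
  obtain ⟨V, hV⟩ := exists_lifted hK hσ hc hm1
  rw [← Subgroup.index_comap_of_surjective _ hσ]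
  set W := ((U1 K m).subgroupOf (twistedF4 K (2 ^ m))).comap σ with hW
  have hWU : ∀ w : ↥W, im σ (w : Γ) ∈ U1 K m := fun w => w.2
  have hVW : V ≤ W := fun v hv => by
    show im σ v ∈ U1 K m
    rw [← N_zero hK]; exact hV.mem v hv
  haveI : (V.subgroupOf W).Normal := ⟨fun v hv g => by
    rw [Subgroup.mem_subgroupOf] at hv ⊢
    push_cast
    exact hV.conj _ (Or.inl (hWU g)) _ hv⟩
  letI : CommGroup (↥W ⧸ V.subgroupOf W) :=
    { (inferInstance : Group (↥W ⧸ V.subgroupOf W)) with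
      mul_comm := fun x y => by
        obtain ⟨a, rfl⟩ := QuotientGroup.mk'_surjective _ x
        obtain ⟨b, rfl⟩ := QuotientGroup.mk'_surjective _ y
        obtain ⟨v, hv, ev⟩ := hV.surj (im σ (a : Γ)) ((N_zero hK).symm ▸ hWU a)
        have hvz : v⁻¹ * (a : Γ) ∈ Subgroup.center Γ :=
          im_one hc (by rw [map_mul, map_inv, ev, inv_mul_cancel])
        rw [← map_mul, ← map_mul]
        refine QuotientGroup.eq.2 ?_
        rw [Subgroup.mem_subgroupOf]
        push_cast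
        obtain ⟨zz, hzz, ea⟩ : ∃ zz ∈ Subgroup.center Γ, (a : Γ) = v * zz :=
          ⟨_, hvz, (mul_inv_cancel_left _ _).symm⟩
        have e : ((a : Γ) * (b : Γ))⁻¹ * ((b : Γ) * (a : Γ)) =
            (b : Γ)⁻¹ * v⁻¹ * (b : Γ) * v := by
          rw [ea, show (v * zz * (b : Γ))⁻¹ * ((b : Γ) * (v * zz)) =
            (((b : Γ) * (v * zz))⁻¹ * (v * zz * (b : Γ)))⁻¹ by group, swap_eq hzz]
          group
        rw [e]
        refine mul_mem ?_ hv
        have := hV.conj (b : Γ)⁻¹ (Or.inl (by rw [map_inv]; exact inv_mem (hWU b))) _ (inv_mem hv)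
        rwa [inv_inv] at this }
  have hzW : z ∈ W := by
    show σ z ∈ (U1 K m).subgroupOf (twistedF4 K (2 ^ m))
    rw [MonoidHom.mem_ker.1 hz]
    exact one_mem _
  let θ : ↥W →* ↥W ⧸ V.subgroupOf W := QuotientGroup.mk' _
  have h := MonoidHom.transfer_eq_pow θ z fun k g₀ _ => by
    rw [mul_assoc, ← (Subgroup.mem_center_iff.1 (pow_mem (hc hz) k) g₀), inv_mul_cancel_left]
  rw [Abelianization.commutator_subset_ker _ hzd] at h
  have h' := (QuotientGroup.eq_one_iff _).1 h.symm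
  rw [Subgroup.mem_subgroupOf] at h'
  exact hV.triv _ h' (by
    show im σ (z ^ W.index) = 1
    rw [map_pow, show im σ z = 1 from congrArg Subtype.val (MonoidHom.mem_ker.1 hz), one_pow])

end ReeF4Mult

end Cfsg.Agent.Chev
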